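import Mathlib

/-!
# The quotient by the centre of a group generated by an invariant indexed family
-/

set_option autoImplicit false

namespace Cfsg.Agent.Transpos.Recog22

variable {X : Type*} [Group X] {ι : Type*} {n : ℕ}

/-- If the members of a family generating `X` are conjugates, by some of them `a`, of one of them,
and the `a` permute the family as `π`, then `X` modulo its centre is the group generated by `π`. -/
theorem quot_center_equiv (f : ι → X) (hf : Function.Injective f)
    (hgen : Subgroup.closure (Set.range f) = ⊤) (g : Fin n → ι) (π : Fin n → Equiv.Perm ι)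
    (act : ∀ j i, f (g j) * f i * (f (g j))⁻¹ = f (π j i))
    (htree : ∀ S : Set ι, (∀ j, g j ∈ S) → (∀ j, ∀ i ∈ S, π j i ∈ S) → ∀ i, i ∈ S) :
    Nonempty (X ⧸ Subgroup.center X ≃* Subgroup.closure (Set.range π)) := by
  have hA : Subgroup.closure (Set.range fun j => f (g j)) = ⊤ := by
    refine eq_top_iff.2 (hgen ▸ (Subgroup.closure_le _).2 ?_)
    rintro _ ⟨i, rfl⟩
    refine htree {i | f i ∈ Subgroup.closure (Set.range fun j => f (g j))} (fun j => ?_)
      (fun j i hi => ?_) i
    · exact Subgroup.subset_closure ⟨j, rfl⟩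
    · show f (π j i) ∈ Subgroup.closure (Set.range fun j => f (g j))
      rw [← act]
      exact mul_mem (mul_mem (Subgroup.subset_closure ⟨j, rfl⟩) hi)
        (inv_mem (Subgroup.subset_closure ⟨j, rfl⟩))
  let S : Subgroup X :=
    { carrier := {x | ∃ σ : Equiv.Perm ι, ∀ i, x * f i * x⁻¹ = f (σ i)}
      one_mem' := ⟨1, fun i => by simp⟩
      mul_mem' := fun {x y} ⟨σ, hσ⟩ ⟨τ, hτ⟩ => ⟨σ * τ, fun i => by
        rw [show x * y * f i * (x * y)⁻¹ = x * (y * f i * y⁻¹) * x⁻¹ by group, hτ, hσ]; rfl⟩
      inv_mem' := fun {x} ⟨σ, hσ⟩ => ⟨σ⁻¹, fun i => by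
        have h := hσ (σ⁻¹ i)
        rw [show σ (σ⁻¹ i) = i from σ.apply_symm_apply i] at h
        rw [← h]; group⟩ }
  have hS : S = ⊤ := eq_top_iff.2 (hA ▸ (Subgroup.closure_le _).2 (by
    rintro _ ⟨j, rfl⟩; exact ⟨π j, act j⟩))
  have hall : ∀ x : X, ∃ σ : Equiv.Perm ι, ∀ i, x * f i * x⁻¹ = f (σ i) := fun x =>
    (hS ▸ Subgroup.mem_top x : x ∈ S)
  choose φ hφ using hall
  have huniq : ∀ x σ, (∀ i, x * f i * x⁻¹ = f (σ i)) → φ x = σ := fun x σ h =>
    Equiv.ext fun i => hf ((hφ x i).symm.trans (h i))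
  let Φ : X →* Equiv.Perm ι :=
    { toFun := φ
      map_one' := huniq 1 1 fun i => by simp
      map_mul' := fun x y => huniq _ _ fun i => by
        rw [show x * y * f i * (x * y)⁻¹ = x * (y * f i * y⁻¹) * x⁻¹ by group, hφ, hφ]; rfl }
  have hker : Φ.ker = Subgroup.center X := by
    ext x
    rw [MonoidHom.mem_ker, Subgroup.mem_center_iff]
    constructor
    · intro h y
      have h' : φ x = 1 := h
      have hx : ∀ i, Commute (f i) x := fun i => by
        have := hφ x i
        rw [h'] at this
        exact (mul_inv_eq_iff_eq_mul.1 this).symm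
      have hle : Subgroup.closure (Set.range f) ≤ Subgroup.centralizer ({x} : Set X) :=
        (Subgroup.closure_le _).2 (by
          rintro _ ⟨i, rfl⟩
          exact Subgroup.mem_centralizer_singleton_iff.2 (hx i).eq)
      exact Subgroup.mem_centralizer_singleton_iff.1 (hle (hgen ▸ Subgroup.mem_top y))
    · intro h
      exact huniq x 1 fun i => by rw [← h (f i), mul_inv_cancel_right]; rfl
  have hrange : Φ.range = Subgroup.closure (Set.range π) := by
    rw [MonoidHom.range_eq_map, ← hA, MonoidHom.map_closure, ← Set.range_comp]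
    exact congrArg (fun g => Subgroup.closure (Set.range g)) (funext fun j => huniq _ _ (act j))
  exact ⟨(QuotientGroup.quotientMulEquivOfEq hker.symm).trans
    ((QuotientGroup.quotientKerEquivRange Φ).trans (MulEquiv.subgroupCongr hrange))⟩

end Cfsg.Agent.Transpos.Recog22
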