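import Mathlib

/-!
# Two involutions in a finite group, and braided triples
-/

set_option autoImplicit false

namespace Cfsg.Agent.Transpos.Recog22

variable {G : Type*} [Group G]

theorem involution_inv {u : G} (hu : u * u = 1) : u⁻¹ = u := inv_eq_of_mul_eq_one_right hu

theorem flip_pow {u w : G} (hu : u * u = 1) (hw : w * w = 1) : ∀ n : ℕ,
    u * (u * w) ^ n * u = ((u * w) ^ n)⁻¹
  | 0 => by simp [hu]
  | n + 1 => by
    have e1 : u * (u * w) * u = (u * w)⁻¹ := by
      rw [mul_inv_rev, involution_inv hu, involution_inv hw, ← mul_assoc, hu, one_mul]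
    calc u * (u * w) ^ (n + 1) * u = (u * (u * w) ^ n * u) * (u⁻¹ * (u * w) * u) := by
          rw [pow_succ]; group
      _ = ((u * w) ^ n)⁻¹ * (u * w)⁻¹ := by rw [flip_pow hu hw n, involution_inv hu, e1]
      _ = ((u * w) ^ (n + 1))⁻¹ := by rw [← mul_inv_rev, ← pow_succ']

/-- Conjugation of a reflection by a rotation. -/
theorem rot_conj {u w : G} (hu : u * u = 1) (hw : w * w = 1) (m : ℕ) :
    (u * w) ^ m * u * ((u * w) ^ m)⁻¹ = (u * w) ^ (2 * m) * u := by
  calc (u * w) ^ m * u * ((u * w) ^ m)⁻¹
      = (u * w) ^ m * u * (u * (u * w) ^ m * u) := by rw [flip_pow hu hw m]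
    _ = (u * w) ^ m * (u * u) * (u * w) ^ m * u := by group
    _ = (u * w) ^ (2 * m) * u := by rw [hu, mul_one, two_mul, pow_add]

theorem rot_conj' {u w : G} (hu : u * u = 1) (hw : w * w = 1) (m : ℕ) :
    (u * w) ^ m * w * ((u * w) ^ m)⁻¹ = (u * w) ^ (2 * m) * w := by
  have e : w = u * (u * w) := by rw [← mul_assoc, hu, one_mul]
  calc (u * w) ^ m * w * ((u * w) ^ m)⁻¹
      = ((u * w) ^ m * u * ((u * w) ^ m)⁻¹) * ((u * w) ^ m * (u * w) * ((u * w) ^ m)⁻¹) := by
        conv_lhs => arg 1; arg 2; rw [e]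
        group
    _ = (u * w) ^ (2 * m) * u * (u * w) := by
        rw [rot_conj hu hw m, ((Commute.refl (u * w)).pow_left m).eq, mul_inv_cancel_right]
    _ = (u * w) ^ (2 * m) * w := by rw [mul_assoc, ← e]

/-- A rotation raised to any power commutes with what commutes with both. -/
theorem commute_rot {u w y : G} (hu : Commute y u) (hw : Commute y w) (m : ℕ) :
    Commute y ((u * w) ^ m) := (hu.mul_right hw).pow_right m

/-- The alternatives for two involutions. -/
theorem dihedral [Finite G] {u w : G} (hu : u * u = 1) (hw : w * w = 1) :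
    (∃ m, (u * w) ^ m * u * ((u * w) ^ m)⁻¹ = w) ∨
    ∃ k, (u * w) ^ k ≠ 1 ∧ (u * w) ^ k * (u * w) ^ k = 1 ∧ Commute ((u * w) ^ k) u ∧
      Commute ((u * w) ^ k) w ∧
      ((∃ m, (u * w) ^ m * u * ((u * w) ^ m)⁻¹ = u * (u * w) ^ k ∧
          (u * w) ^ m * w * ((u * w) ^ m)⁻¹ = w * (u * w) ^ k) ∨
        ∃ m, (u * w) ^ m * u * ((u * w) ^ m)⁻¹ = w * (u * w) ^ k) := by
  have hr : w = (u * w)⁻¹ * u := by
    rw [mul_inv_rev, involution_inv hu, involution_inv hw, mul_assoc, hu, mul_one]
  rcases Nat.even_or_odd' (orderOf (u * w)) with ⟨k, h | h⟩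
  · have hpos : 0 < orderOf (u * w) := orderOf_pos _
    have hi : (u * w) ^ k * (u * w) ^ k = 1 := by
      rw [← pow_add, ← two_mul, ← h, pow_orderOf_eq_one]
    have hcu : Commute ((u * w) ^ k) u := by
      have h1 := flip_pow hu hw k
      rw [inv_eq_of_mul_eq_one_right hi] at h1
      calc (u * w) ^ k * u = u * (u * w) ^ k * u * u := by rw [h1]
        _ = u * (u * w) ^ k := by rw [mul_assoc, hu, mul_one]
    have hcr : Commute ((u * w) ^ k) (u * w) := Commute.pow_self _ _
    have hcw : Commute ((u * w) ^ k) w := by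
      have := hcu.mul_right hcr
      rwa [← mul_assoc, hu, one_mul] at this
    refine Or.inr ⟨k, pow_ne_one_of_lt_orderOf (by omega) (by omega), hi, hcu, hcw, ?_⟩
    rcases Nat.even_or_odd' k with ⟨m, e | e⟩
    · exact Or.inl ⟨m, by rw [rot_conj hu hw, ← e, hcu.eq], by rw [rot_conj' hu hw, ← e, hcw.eq]⟩
    · refine Or.inr ⟨m, ?_⟩
      rw [rot_conj hu hw, ← hcw.eq]
      conv_rhs => rw [e, pow_succ, mul_assoc]; arg 2; arg 2; rw [hr]
      rw [mul_inv_cancel_left]
  · refine Or.inl ⟨k, ?_⟩
    have : (u * w) ^ (2 * k) = (u * w)⁻¹ :=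
      eq_inv_of_mul_eq_one_left (by rw [← pow_succ, ← h, pow_orderOf_eq_one])
    rw [rot_conj hu hw, this, ← hr]

/-- An involution braiding with two commuting involutions commutes with their product only if
they are equal. -/
theorem braid_eq {p q r : G} (hp : p * p = 1) (hq : q * q = 1) (hr : r * r = 1)
    (hqr : Commute q r) (hc : Commute p (q * r)) (bq : p * q * p = q * p * q)
    (br : p * r * p = r * p * r) : q = r := by
  have e1 : (q * p * q) * (r * p * r) = q * r := by
    calc (q * p * q) * (r * p * r) = (p * q * p) * (p * r * p) := by rw [bq, br]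
      _ = p * (q * (p * p) * r) * p := by group
      _ = p * (q * r) * p := by rw [hp, mul_one]
      _ = q * r * (p * p) := by rw [hc.eq]; group
      _ = q * r := by rw [hp, mul_one]
  have e3 : p * (q * r) * p * r * q = q * r * q * q := by
    calc p * (q * r) * p * r * q = q * (q * p * q * (r * p * r)) * (r * r) * q := by
          rw [hr, mul_one]
          calc p * (q * r) * p * r * q = 1 * (p * (q * r) * p * r) * q := by rw [one_mul]
            _ = (q * q) * (p * q * r * p * r) * q := by rw [hq]; group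
            _ = _ := by group
      _ = q * (q * r) * q := by rw [e1, hr, mul_one]
      _ = _ := by
        rw [show q * (q * r) * q = (q * q) * (r * q) by group, hq, one_mul,
          show q * r * q * q = q * r * (q * q) by group, hq, mul_one, hqr.eq]
  have e4 : p * (q * r) * p * r * q = 1 := by
    rw [hc.eq]
    calc q * r * p * p * r * q = q * r * (p * p) * r * q := by group
      _ = q * (r * r) * q := by rw [hp]; group
      _ = 1 := by rw [hr, mul_one, hq]
  rw [e4, show q * r * q * q = q * r * (q * q) by group, hq, mul_one] at e3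
  calc q = q * 1 := (mul_one q).symm
    _ = (q * q) * r := by rw [e3]; group
    _ = r := by rw [hq, one_mul]

end Cfsg.Agent.Transpos.Recog22
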