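import Cfsg.Agent.Lib.Transpos.Recog22.Setting
import Cfsg.Agent.Lib.Transpos.Recog22.Dihedral

/-!
# First properties of the class

* `Loc.commute_or_braid`: two members commuting with a member commute or braid.
* `Loc.three_notMem`: three distinct pairwise commuting members do not multiply into the class.
-/

set_option autoImplicit false
set_option maxRecDepth 20000

namespace Cfsg.Agent.Transpos.Recog22

open Cfsg Cfsg.Agent.ClassicalSimple Cfsg.Agent.Transpos

/-- Three pairwise orthogonal transvections with different centres do not multiply to one. -/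
theorem pt_three_ne_one {a b c : L6.V} (ha : L6.hB a a = 0) (hb : L6.hB b b = 0)
    (hc : L6.hB c c = 0) (h0 : a ≠ 0) (hba : L6.hB b a = 0) (hca : L6.hB c a = 0)
    (hbc : L6.hB b c = 0) (nab : ∀ m : L6.K, b ≠ m • a) (nca : ∀ m : L6.K, a ≠ m • c) :
    U6.pt L6.cx a ha * U6.pt L6.cx b hb * U6.pt L6.cx c hc ≠ 1 := by
  intro e
  have hli : LinearIndependent L6.K ![a, b] :=
    (LinearIndependent.pair_iff' h0).2 fun m => Ne.symm (nab m)
  obtain ⟨y, hy⟩ := exists_eval_eq _ (linearIndependent_h L6.cx.form hli) ![1, 0]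
  have hya : L6.hB a y = 1 := hy 0
  have hyb : L6.hB b y = 0 := hy 1
  obtain ⟨l, -, hl⟩ := (U6.proj_eq_one_iff L6.cx (U6.tv L6.cx a ha * U6.tv L6.cx b hb *
    U6.tv L6.cx c hc)).1 (by rw [QuotientGroup.mk_mul, QuotientGroup.mk_mul]; exact e)
  have key : ∀ x, x + L6.hB c x • c + L6.hB b x • b +
      L6.hB a (x + L6.hB c x • c + L6.hB b x • b) • a = l • x := fun x => by
    rw [← hl x, mul_smul, mul_smul, U6.tv_smul, U6.tv_smul, U6.tv_smul]
    simp [map_add, map_smul, hbc]
  have hl1 : l = 1 := by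
    have := key a
    simp only [hca, hba, zero_smul, add_zero, ha] at this
    exact (smul_left_injective L6.K h0 (by simpa using this)).symm
  have := key y
  simp only [hl1, one_smul, hyb, zero_smul, add_zero, map_add, map_smul, hya,
    L6.cx.form.comm_zero hca, smul_zero, add_assoc, add_eq_left] at this
  rw [show a = -(L6.hB c y • c) from eq_neg_of_add_eq_zero_right this, ← neg_smul] at nca
  exact nca _ rfl

variable {G : Type*} [Group G] [Finite G] {d : G}

theorem conjugatesOf_eq {u : G} (hu : u ∈ conjugatesOf d) : conjugatesOf u = conjugatesOf d :=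
  (IsConj.conjugatesOf_eq hu).symm

namespace Loc

variable (L : Loc d)
include L

theorem sqD {u : G} (hu : u ∈ conjugatesOf d) : u * u = 1 := sq_of_conj L.sq hu

theorem one_notMem : (1 : G) ∉ conjugatesOf d := fun h => (L.at' h).ne rfl

theorem exists_mem' {u y : G} (hu : u ∈ conjugatesOf d) (hy : y ∈ conjugatesOf d)
    (hc : Commute y u) (hne : y ≠ u) :
    ∃ c, L6.Iso c ∧ L6.vec c ≠ 0 ∧ y = (L.at' hu).mem c :=
  (L.at' hu).exists_mem (by rwa [conjugatesOf_eq hu]) hc hne

theorem mem_mem' {u : G} (hu : u ∈ conjugatesOf d) {c : ℕ} (hc : L6.Iso c) (h0 : L6.vec c ≠ 0) :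
    (L.at' hu).mem c ∈ conjugatesOf d := by
  rw [← conjugatesOf_eq hu]; exact (L.at' hu).mem_mem hc h0

theorem commute_or_braid {a u v : G} (ha : a ∈ conjugatesOf d) (hu : u ∈ conjugatesOf d)
    (hv : v ∈ conjugatesOf d) (cu : Commute u a) (cv : Commute v a) :
    Commute u v ∨ u * v * u = v * u * v := by
  by_cases h : Commute u v
  · exact Or.inl h
  have hua : u ≠ a := fun e => h (by rw [e]; exact cv.symm)
  have hva : v ≠ a := fun e => h (by rw [e]; exact cu)
  obtain ⟨c, hc, h0, rfl⟩ := L.exists_mem' ha hu cu hua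
  obtain ⟨c', hc', h0', rfl⟩ := L.exists_mem' ha hv cv hva
  exact Or.inr ((L.at' ha).mem_braid hc h0 hc' h0' h)

theorem mul_notMem {u v : G} (hu : u ∈ conjugatesOf d) (hv : v ∈ conjugatesOf d)
    (hc : Commute u v) : u * v ∉ conjugatesOf d := by
  intro h
  by_cases hne : v = u
  · rw [hne, L.sqD hu] at h; exact L.one_notMem h
  have h1 : u * v ≠ u := fun e => (L.at' hv).ne (mul_eq_left.1 e)
  obtain ⟨c, hc0, h00, e⟩ := L.exists_mem' hu hv hc.symm hne
  obtain ⟨c', hc', h0', e'⟩ := L.exists_mem' hu h ((Commute.refl u).mul_left hc.symm) h1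
  have hψ := (L.at' hu).ψ_mem hc' h0'
  rw [show (⟨(L.at' hu).mem c', _⟩ : ↥(Cent u)) =
      (L.at' hu).Δ.z * ⟨(L.at' hu).mem c, mem_cent.2 ((L.at' hu).commute_mem c)⟩ from Subtype.ext
        (by rw [Subgroup.coe_mul, (L.at' hu).hz]; show _ = u * (L.at' hu).mem c; rw [← e, e']),
    map_mul, (L.at' hu).Δ.ψz, one_mul, (L.at' hu).ψ_mem hc0 h00, ← L6.pt_eq hc0, ← L6.pt_eq hc'] at hψ
  obtain ⟨m, hm⟩ := U6.pt_eq_imp L6.cx hc0.hb hc'.hb h0' hψ
  refine (L.at' hu).ne ?_
  have := (L.at' hu).mem_congr hc' h0' hc0 (fun h => h0' (by rw [hm, h, zero_smul])) hm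
  rw [← e, ← e'] at this
  exact mul_eq_right.1 this

theorem three_notMem {a b c : G} (ha : a ∈ conjugatesOf d) (hb : b ∈ conjugatesOf d)
    (hc : c ∈ conjugatesOf d) (cab : Commute a b) (cac : Commute a c) (cbc : Commute b c)
    (nab : a ≠ b) (nac : a ≠ c) (nbc : b ≠ c) : a * b * c ∉ conjugatesOf d := by
  intro hs
  have s1 : a * b * c ≠ a := fun e => nbc (by
    have h : b * c = 1 := mul_eq_left.1 (show a * (b * c) = a by rw [← mul_assoc, e])
    rw [eq_inv_of_mul_eq_one_left h, involution_inv (L.sqD hc)])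
  have s2 : a * b * c ≠ b := fun e => nac (by
    have h : a * c = 1 := mul_eq_left.1 (show b * (a * c) = b by rw [← mul_assoc, ← cab.eq, e])
    rw [eq_inv_of_mul_eq_one_left h, involution_inv (L.sqD hc)])
  have s3 : a * b * c ≠ c := fun e => nab (by
    have h : a * b = 1 := mul_eq_right.1 e
    rw [eq_inv_of_mul_eq_one_left h, involution_inv (L.sqD hb)])
  set s := a * b * c with hsdef
  have ca : Commute a s := ((Commute.refl a).mul_right cab).mul_right cac
  have cb : Commute b s := (cab.symm.mul_right (Commute.refl b)).mul_right cbc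
  have cc : Commute c s := (cac.symm.mul_right cbc.symm).mul_right (Commute.refl c)
  obtain ⟨i, hi, i0, ei⟩ := L.exists_mem' hs ha ca s1.symm
  obtain ⟨j, hj, j0, ej⟩ := L.exists_mem' hs hb cb s2.symm
  obtain ⟨k, hk, k0, ek⟩ := L.exists_mem' hs hc cc s3.symm
  set M := L.at' hs
  have e : (⟨M.mem i, mem_cent.2 (M.commute_mem i)⟩ : ↥(Cent s)) *
      ⟨M.mem j, mem_cent.2 (M.commute_mem j)⟩ * ⟨M.mem k, mem_cent.2 (M.commute_mem k)⟩ = M.Δ.z :=
    Subtype.ext (by
      rw [M.hz]
      show M.mem i * M.mem j * M.mem k = s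
      rw [← ei, ← ej, ← ek])
  have h := congrArg M.Δ.ψ e
  rw [map_mul, map_mul, M.ψ_mem hi i0, M.ψ_mem hj j0, M.ψ_mem hk k0, M.Δ.ψz, ← L6.pt_eq hi,
    ← L6.pt_eq hj, ← L6.pt_eq hk] at h
  have horth : ∀ {p q : ℕ}, L6.Iso p → L6.vec p ≠ 0 → L6.Iso q → L6.vec q ≠ 0 →
      Commute (M.mem p) (M.mem q) → L6.hB (L6.vec q) (L6.vec p) = 0 := fun hp p0 hq q0 h => by
    rw [Forms.hermB_apply]
    exact (M.commute_mem_iff hq q0 hp p0).1 h.symm
  have hind : ∀ {p q : ℕ}, L6.Iso p → L6.vec p ≠ 0 → L6.Iso q → L6.vec q ≠ 0 →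
      M.mem q ≠ M.mem p → ∀ m : L6.K, L6.vec q ≠ m • L6.vec p := fun hp p0 hq q0 hne m hm =>
    hne (M.mem_congr hq q0 hp (fun h => q0 (by rw [hm, h, zero_smul])) hm)
  exact pt_three_ne_one hi.hb hj.hb hk.hb i0 (horth hi i0 hj j0 (by rwa [← ei, ← ej]))
    (horth hi i0 hk k0 (by rwa [← ei, ← ek]))
    (horth hk k0 hj j0 (by rw [← ek, ← ej]; exact cbc.symm))
    (hind hi i0 hj j0 (by rw [← ei, ← ej]; exact nab.symm))
    (hind hk k0 hi i0 (by rwa [← ei, ← ek])) h

/-- Commuting with the product of two commuting members, one commutes with both or with none. -/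
theorem commute_of_mul' {a p u v : G} (ha : a ∈ conjugatesOf d) (hp : p ∈ conjugatesOf d)
    (hu : u ∈ conjugatesOf d) (hv : v ∈ conjugatesOf d) (cp : Commute p a) (cu : Commute u a)
    (cv : Commute v a) (cuv : Commute u v) (hne : u ≠ v) (hc : Commute p (u * v)) :
    Commute p u := by
  by_contra h
  have h' : ¬ Commute p v := fun h' => h (by
    have := hc.mul_right h'
    rwa [mul_assoc, L.sqD hv, mul_one] at this)
  exact hne (braid_eq (L.sqD hp) (L.sqD hu) (L.sqD hv) cuv hc
    ((L.commute_or_braid ha hp hu cp cu).resolve_left h)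
    ((L.commute_or_braid ha hp hv cp cv).resolve_left h'))

end Loc

end Cfsg.Agent.Transpos.Recog22
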