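import Cfsg.Agent.Lib.Transpos.Recog22.PairData

/-!
# Members, pairs and the other elements of the plane subgroup
-/

set_option autoImplicit false
set_option maxRecDepth 200000
set_option synthInstance.maxSize 100000
set_option synthInstance.maxHeartbeats 1000000

namespace Cfsg.Agent.Transpos.Recog22

/-- The code of the `i`-th of the 22. -/
def code22 (e1 e2 : Bool) (i : ℕ) : ℕ := if i < 21 then mcode e1 e2 i else 512

/-- The mask of the 22 members. -/
def memMask (e1 e2 : Bool) : ℕ :=
  if e1 then (if e2 then 171441377149802771351748007849634100539817452448651928727166214106758451237548179532420274404654285527584393619905087324997730016469068097923819103397031198697781685313376544427428439892653244136190474082989087113689682027982398394439514602528169323491667517741642615629768405470803939018326647301472256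
    else 297403381695590423409605182206685101376087284923442494316606480645076514571483160496997887188475841544699788954294758442688930305024276911112483579868219391797811994486683774257785338773795110421701992392943335443070937836057972825543705834421364778069084299352663984446684233881092096)
  else 653996952628336987883560244418793498550812081387495771657942968593891574746814779571296451884694869840147722674292613452109633006395060991570961659286254743285989008695668736360826504126040344728200151934552192340222457800098624245614115894791097530329871627445483085210752291207445882592848510976

/-- The mask of the products of two members. -/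
def pairMask (e1 e2 : Bool) : ℕ :=
  if e1 then (if e2 then 4229801669642478340813848885208150838869679433527406465993775651695295809363137797364574930013167425834123781180439605434829611763871496504021054715535843305288540869130805449196282942158002773210903919671723320615724654219650823503259068390226578842698615960425785816570430807239547619088474812608975675262
    else 14407773333600827289533874246592637133376899615660907758892402477278669810599202042405530262365009564468894781956626563951760156000968724364044688950235493120136594874816623210205544378232683046659431842148953283217629238634916376646035566555820277797504452304481335834070295833771153448530283900968470781822)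
  else 12997839435339381005747326913767894419020782040567203737096796397910308991609445904089658144827585985878066199893879134449306719763380232680350673197948596086556860970164082123385319062760946518881057501813938661537356465713135613600273988607190978175734856476939382971787415381349466582002323854387645980542

theorem mem_spec_aux (e1 e2 : Bool) (he : (e1 || e2) = true) : ∀ c < 1024,
    (memMask e1 e2).testBit c = true → ∃ i < 22, c = code22 e1 e2 i := by
  cases e1 <;> cases e2 <;> first | exact absurd he (by decide) | decide +kernel

theorem pair_spec_aux (e1 e2 : Bool) (he : (e1 || e2) = true) : ∀ c < 1024,
    (pairMask e1 e2).testBit c = true →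
      ∃ i < 22, ∃ l < 22, i ≠ l ∧ c = code22 e1 e2 i ^^^ code22 e1 e2 l := by
  cases e1 <;> cases e2 <;> first | exact absurd he (by decide) | decide +kernel

theorem pair_complete (e1 e2 : Bool) (he : (e1 || e2) = true) : ∀ i < 22, ∀ l < 22, i ≠ l →
    (pairMask e1 e2).testBit (code22 e1 e2 i ^^^ code22 e1 e2 l) = true := by
  cases e1 <;> cases e2 <;> first | exact absurd he (by decide) | decide +kernel

theorem code_class (e1 e2 : Bool) (he : (e1 || e2) = true) : ∀ c < 1024, c ≠ 0 →
    (memMask e1 e2).testBit c = true ∨ (pairMask e1 e2).testBit c = true ∨
      ((∃ i < 22, (pairMask e1 e2).testBit (c ^^^ code22 e1 e2 i) = true) ∧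
        ∃ i < 22, (pairMask e1 e2).testBit (c ^^^ code22 e1 e2 i) = false) := by
  cases e1 <;> cases e2 <;> first | exact absurd he (by decide) | decide +kernel

theorem code22_lt (e1 e2 : Bool) : ∀ i < 22, code22 e1 e2 i < 1024 := by
  cases e1 <;> cases e2 <;> decide +kernel

theorem plane_span : ∀ a b c : L6.K, (a ≠ 0 ∨ b ≠ 0 ∨ c ≠ 0) →
    ∃ j < 21, ∃ s : L6.K, a • L6.vec 5 + b • L6.vec 80 + c • L6.vec 1280 = s • L6.vec (L6.P j) := by
  decide +kernel

end Cfsg.Agent.Transpos.Recog22
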