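import Cfsg.Agent.Lib.Transpos.Recog22.Setting

/-!
# Arithmetic on codes of vectors
-/

set_option autoImplicit false
set_option maxRecDepth 200000

namespace Cfsg.Agent.Transpos.Recog22

open Cfsg

/-- Product of two scalar codes. -/
def fm (a b : ℕ) : ℕ := G2Four.mulN a b

/-- A coordinate. -/
def cd (c j : ℕ) : ℕ := (c >>> (2 * j)) % 4

/-- A code from six coordinates. -/
def pack (a b c d e f : ℕ) : ℕ := a + 4 * b + 16 * c + 64 * d + 256 * e + 1024 * f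

/-- The form on codes. -/
def hn (a b : ℕ) : ℕ :=
  let t := fun j => fm (cd a j) (fm (cd b j) (cd b j))
  t 0 ^^^ t 1 ^^^ t 2 ^^^ t 3 ^^^ t 4 ^^^ t 5

/-- A multiple. -/
def sn (m a : ℕ) : ℕ :=
  pack (fm m (cd a 0)) (fm m (cd a 1)) (fm m (cd a 2)) (fm m (cd a 3)) (fm m (cd a 4)) (fm m (cd a 5))

/-- A transvection. -/
def tnN (c x : ℕ) : ℕ := x ^^^ sn (hn x c) c

/-- The least code on a point. -/
def nrm (a : ℕ) : ℕ := min (sn 1 a) (min (sn 2 a) (sn 3 a))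

/-- A product of transvections. -/
def wN (l : List ℕ) (x : ℕ) : ℕ := l.foldr tnN x

theorem el_facts : ∀ a < 4, ∀ b < 4, L6.el a + L6.el b = L6.el (a ^^^ b) ∧
    L6.el a * L6.el b = L6.el (fm a b) ∧ fm a b < 4 ∧ a ^^^ b < 4 ∧ (L6.el a = L6.el b → a = b) := by
  decide +kernel

theorem el_surj : ∀ s : L6.K, ∃ m < 4, s = L6.el m ∧ (s = 0 ↔ m = 0) := by decide +kernel

theorem fm_lt (a b : ℕ) : fm a b < 4 := Nat.mod_lt _ (by norm_num)

theorem cd_lt (c j : ℕ) : cd c j < 4 := Nat.mod_lt _ (by norm_num)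

theorem vec_apply (c : ℕ) (j : Fin 6) : L6.vec c j = L6.el (cd c j) := by
  unfold L6.vec L6.el cd
  congr 1
  exact Fin.ext (by simp [Fin.val_ofNat])

theorem cd_xor (a b j : ℕ) : cd (a ^^^ b) j = cd a j ^^^ cd b j := by
  unfold cd
  rw [Nat.shiftRight_xor_distrib, show (4 : ℕ) = 2 ^ 2 from rfl, Nat.xor_mod_two_pow]

theorem cd_pack {a b c d e f : ℕ} (ha : a < 4) (hb : b < 4) (hc : c < 4) (hd : d < 4) (he : e < 4)
    (hf : f < 4) (j : Fin 6) : cd (pack a b c d e f) j = [a, b, c, d, e, f].getD j 0 := by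
  unfold cd pack
  fin_cases j <;> simp [Nat.shiftRight_eq_div_pow] <;> omega

theorem pack_cd {c : ℕ} (h : c < 4096) :
    pack (cd c 0) (cd c 1) (cd c 2) (cd c 3) (cd c 4) (cd c 5) = c := by
  simp only [cd, pack, Nat.shiftRight_eq_div_pow]
  omega

theorem cd_sn (m a : ℕ) (j : Fin 6) : cd (sn m a) j = fm m (cd a j) := by
  rw [sn, cd_pack (fm_lt ..) (fm_lt ..) (fm_lt ..) (fm_lt ..) (fm_lt ..) (fm_lt ..)]
  fin_cases j <;> rfl

theorem sn_lt (m a : ℕ) : sn m a < 4096 := by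
  have := fm_lt m (cd a 0); have := fm_lt m (cd a 1); have := fm_lt m (cd a 2)
  have := fm_lt m (cd a 3); have := fm_lt m (cd a 4); have := fm_lt m (cd a 5)
  unfold sn pack; omega

theorem vec_xor (a b : ℕ) : L6.vec (a ^^^ b) = L6.vec a + L6.vec b := funext fun j => by
  rw [Pi.add_apply, vec_apply, vec_apply, vec_apply, cd_xor,
    (el_facts _ (cd_lt ..) _ (cd_lt ..)).1]

theorem vec_sn {m : ℕ} (hm : m < 4) (a : ℕ) : L6.vec (sn m a) = L6.el m • L6.vec a :=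
  funext fun j => by
    rw [Pi.smul_apply, smul_eq_mul, vec_apply, vec_apply, cd_sn,
      (el_facts _ hm _ (cd_lt ..)).2.1]

theorem vec_inj {a b : ℕ} (ha : a < 4096) (hb : b < 4096) (h : L6.vec a = L6.vec b) : a = b := by
  have key : ∀ j : Fin 6, cd a j = cd b j := fun j => by
    have := congrFun h j
    rw [vec_apply, vec_apply] at this
    exact (el_facts _ (cd_lt ..) _ (cd_lt ..)).2.2.2.2 this
  rw [← pack_cd ha, ← pack_cd hb]
  have := key 0; have := key 1; have := key 2; have := key 3; have := key 4; have := key 5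
  simp_all

theorem xor_lt' {a b : ℕ} (ha : a < 4096) (hb : b < 4096) : a ^^^ b < 4096 :=
  Nat.xor_lt_two_pow (n := 12) ha hb

theorem hn_lt (a b : ℕ) : hn a b < 4 := by
  unfold hn
  exact Nat.xor_lt_two_pow (n := 2) (Nat.xor_lt_two_pow (n := 2) (Nat.xor_lt_two_pow (n := 2)
    (Nat.xor_lt_two_pow (n := 2) (Nat.xor_lt_two_pow (n := 2) (fm_lt ..) (fm_lt ..)) (fm_lt ..))
    (fm_lt ..)) (fm_lt ..)) (fm_lt ..)

theorem el_xor {a b : ℕ} (ha : a < 4) (hb : b < 4) : L6.el (a ^^^ b) = L6.el a + L6.el b :=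
  (el_facts a ha b hb).1.symm

theorem herm_vec (a b : ℕ) : hermForm 6 L6.K 2 (L6.vec a) (L6.vec b) = L6.el (hn a b) := by
  have hx : ∀ {p q : ℕ}, p < 4 → q < 4 → p ^^^ q < 4 := fun hp hq => Nat.xor_lt_two_pow (n := 2) hp hq
  have ht : ∀ j : Fin 6, L6.vec a j * L6.vec b j ^ 2 =
      L6.el (fm (cd a j) (fm (cd b j) (cd b j))) := fun j => by
    rw [vec_apply, vec_apply, pow_two, (el_facts _ (cd_lt ..) _ (cd_lt ..)).2.1,
      (el_facts _ (cd_lt ..) _ (fm_lt ..)).2.1]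
  unfold hermForm hn
  rw [Fin.sum_univ_six, ht, ht, ht, ht, ht, ht,
    el_xor (hx (hx (hx (hx (fm_lt ..) (fm_lt ..)) (fm_lt ..)) (fm_lt ..)) (fm_lt ..)) (fm_lt ..),
    el_xor (hx (hx (hx (fm_lt ..) (fm_lt ..)) (fm_lt ..)) (fm_lt ..)) (fm_lt ..),
    el_xor (hx (hx (fm_lt ..) (fm_lt ..)) (fm_lt ..)) (fm_lt ..),
    el_xor (hx (fm_lt ..) (fm_lt ..)) (fm_lt ..), el_xor (fm_lt ..) (fm_lt ..)]
  rfl

theorem herm_eq_zero_iff (a b : ℕ) : hermForm 6 L6.K 2 (L6.vec a) (L6.vec b) = 0 ↔ hn a b = 0 := by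
  rw [herm_vec, show (0 : L6.K) = L6.el 0 from rfl]
  exact ⟨(el_facts _ (hn_lt ..) 0 (by norm_num)).2.2.2.2, fun h => by rw [h]⟩

theorem iso_iff (a : ℕ) : L6.Iso a ↔ hn a a = 0 := herm_eq_zero_iff a a

theorem vec_ne_iff {a : ℕ} (ha : a < 4096) : L6.vec a ≠ 0 ↔ a ≠ 0 := by
  have h0 : L6.vec 0 = 0 := funext fun j => by
    rw [vec_apply, show cd 0 j = 0 from by simp [cd]]; rfl
  exact ⟨fun h e => h (by rw [e, h0]), fun h e => h (vec_inj ha (by norm_num) (e.trans h0.symm))⟩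

theorem vec_tnN (c x : ℕ) : L6.vec (tnN c x) = L6.tn c (L6.vec x) := by
  rw [tnN, vec_xor, vec_sn (hn_lt ..), L6.tn, herm_vec]

theorem tnN_lt {x : ℕ} (c : ℕ) (hx : x < 4096) : tnN c x < 4096 := xor_lt' hx (sn_lt ..)

theorem vec_wN : ∀ (l : List ℕ) (x : ℕ), L6.vec (wN l x) = L6.wn l (L6.vec x)
  | [], _ => rfl
  | c :: l, x => by
    show L6.vec (tnN c (wN l x)) = L6.tn c (L6.wn l (L6.vec x))
    rw [vec_tnN, vec_wN l x]

theorem nrm_spec (a : ℕ) : ∃ m < 4, m ≠ 0 ∧ nrm a = sn m a := by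
  unfold nrm
  rcases min_choice (sn 1 a) (min (sn 2 a) (sn 3 a)) with h | h
  · exact ⟨1, by norm_num, by norm_num, h⟩
  rcases min_choice (sn 2 a) (sn 3 a) with h' | h'
  · exact ⟨2, by norm_num, by norm_num, h.trans h'⟩
  · exact ⟨3, by norm_num, by norm_num, h.trans h'⟩

theorem nrm_lt (a : ℕ) : nrm a < 4096 := by
  obtain ⟨m, -, -, e⟩ := nrm_spec a; rw [e]; exact sn_lt ..

theorem vec_nrm (a : ℕ) : ∃ s : L6.K, s ≠ 0 ∧ L6.vec (nrm a) = s • L6.vec a := by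
  obtain ⟨m, hm, hm0, e⟩ := nrm_spec a
  refine ⟨L6.el m, fun h => hm0 ((el_facts m hm 0 (by norm_num)).2.2.2.2 (h.trans rfl)), ?_⟩
  rw [e, vec_sn hm]

theorem iso_nrm {a : ℕ} (h : L6.Iso a) (h0 : L6.vec a ≠ 0) :
    L6.Iso (nrm a) ∧ L6.vec (nrm a) ≠ 0 := by
  obtain ⟨s, hs, e⟩ := vec_nrm a
  refine ⟨?_, by rw [e]; exact smul_ne_zero hs h0⟩
  have := h.hb
  show hermForm 6 L6.K 2 _ _ = 0
  rw [e, ← Forms.hermB_apply L6.hK]
  simp [this]

theorem sn_sn : ∀ m < 4, ∀ n < 4, ∀ a, sn m (sn n a) = sn (fm m n) a := by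
  intro m hm n hn a
  have key : ∀ m < 4, ∀ n < 4, ∀ x < 4, fm m (fm n x) = fm (fm m n) x := by decide +kernel
  have h : ∀ j : Fin 6, fm m (cd (sn n a) j) = fm (fm m n) (cd a j) := fun j => by
    rw [cd_sn, key m hm n hn _ (cd_lt ..)]
  show pack _ _ _ _ _ _ = pack _ _ _ _ _ _
  congr 1
  exacts [h 0, h 1, h 2, h 3, h 4, h 5]

/-- Codes on one point have one least code. -/
theorem nrm_eq {a b : ℕ} (ha : a < 4096) {m : ℕ} (hm : m < 4) (hm0 : m ≠ 0) (h : a = sn m b) :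
    nrm a = nrm b := by
  have _ := ha
  have h' : ∀ k < 4, sn k a = sn (fm k m) b := fun k hk => by rw [h, sn_sn k hk m hm]
  unfold nrm
  rw [h' 1 (by norm_num), h' 2 (by norm_num), h' 3 (by norm_num)]
  have key : ∀ m < 4, m ≠ 0 → (fm 1 m = 1 ∧ fm 2 m = 2 ∧ fm 3 m = 3) ∨
      (fm 1 m = 2 ∧ fm 2 m = 3 ∧ fm 3 m = 1) ∨ (fm 1 m = 3 ∧ fm 2 m = 1 ∧ fm 3 m = 2) := by
    decide +kernel
  rcases key m hm hm0 with ⟨e1, e2, e3⟩ | ⟨e1, e2, e3⟩ | ⟨e1, e2, e3⟩ <;> rw [e1, e2, e3] <;> omega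

theorem nrm_of_smul {a b : ℕ} (ha : a < 4096) {s : L6.K} (hs : s ≠ 0)
    (h : L6.vec a = s • L6.vec b) : nrm a = nrm b := by
  obtain ⟨m, hm, e, e0⟩ := el_surj s
  exact nrm_eq ha hm (fun h0 => hs (e0.2 h0))
    (vec_inj ha (sn_lt ..) (by rw [h, e, vec_sn hm]))

end Cfsg.Agent.Transpos.Recog22
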