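import Cfsg.Agent.Lib.Transpos.U6Model

/-!
# The five quadruples completing two members of the plane

With the member codes `mcode j`, the sets of four of the members `1, …, 20` multiplying to the
product of the centre and member `0` are the five classes of `cls`.
-/

set_option autoImplicit false
set_option maxRecDepth 200000
set_option synthInstance.maxSize 100000
set_option synthInstance.maxHeartbeats 1000000

namespace Cfsg.Agent.Transpos.Recog22

/-- The code of member `j`. -/
def mcode (e1 e2 : Bool) (j : ℕ) : ℕ := L6.tb e1 e2 j ^^^ 512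

/-- The class of a member. -/
def cls (j : ℕ) : ℕ := [0, 0, 1, 0, 0, 1, 1, 2, 3, 0, 1, 4, 2, 3, 4, 4, 2, 3, 3, 4, 2].getD j 0

/-- A class. -/
def quad (i : ℕ) : List ℕ :=
  [[1, 3, 4, 9], [2, 5, 6, 10], [7, 12, 16, 20], [8, 13, 17, 18], [11, 14, 15, 19]].getD i []

/-- The codes of the twenty further members, as a mask. -/
def twenty (e1 e2 : Bool) : ℕ :=
  if e1 then (if e2 then 171441377149802771351748007849634100539817452448651928727166214106758451237548179532420274404654285527584393619905087324997730016469068097923819103356807774907953894014654469432810901510215146674413293949818402782524389937761757464033891708027459040421571943182184463068506757034964229179025700283219968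
    else 297403381695590423409605182206685101376087284923442494316606480645076514571483160496997887188475841544699788954294758442688930304984053487322655788569497316803194456104245676796008158640624426090536700302722694512665314941557262542473610259861906625507822650916824274607383286862839808)
  else 653996952628336987883560244418793498550812081387495771657942968593891574746814779571296451884694869840147722674292613452109633006395060991570921435862464915494690286620674118822444066028578567548066981250221027048132237159168218622719615184508027434755312169292921823562316451497606581645830258688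

theorem mcode_lt : ∀ e1 e2 : Bool, ∀ j < 21, mcode e1 e2 j < 1024 ∧
    (1 ≤ j → (twenty e1 e2).testBit (mcode e1 e2 j) = true ∨ (e1 || e2) = false) := by decide +kernel

theorem quad_mem : ∀ j < 21, 1 ≤ j → cls j < 5 ∧ j ∈ quad (cls j) := by decide +kernel

theorem quad_spec : ∀ i < 5, ∀ j ∈ quad i, 1 ≤ j ∧ j < 21 ∧ cls j = i := by decide +kernel

theorem quad_xor : ∀ e1 e2 : Bool, (e1 || e2) = true → ∀ i < 5, ∀ a ∈ quad i, ∀ b ∈ quad i,
    a ≠ b → ∀ c ∈ quad i, c ≠ a → c ≠ b → ∀ e ∈ quad i, e ≠ a → e ≠ b → e ≠ c →
      mcode e1 e2 a ^^^ mcode e1 e2 b ^^^ mcode e1 e2 c ^^^ mcode e1 e2 e = L6.tb e1 e2 0 := by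
  decide +kernel

theorem cls_tf : ∀ a < 21, 1 ≤ a → ∀ b < 21, 1 ≤ b → a ≠ b → ∀ c < 21, 1 ≤ c → a ≠ c → b ≠ c →
    (cls a = cls b ∧ cls b = cls c) ∨ (twenty true false).testBit
      (mcode true false a ^^^ mcode true false b ^^^ mcode true false c ^^^ L6.tb true false 0) =
        false := by decide +kernel

theorem cls_ft : ∀ a < 21, 1 ≤ a → ∀ b < 21, 1 ≤ b → a ≠ b → ∀ c < 21, 1 ≤ c → a ≠ c → b ≠ c →
    (cls a = cls b ∧ cls b = cls c) ∨ (twenty false true).testBit
      (mcode false true a ^^^ mcode false true b ^^^ mcode false true c ^^^ L6.tb false true 0) =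
        false := by decide +kernel

theorem cls_tt : ∀ a < 21, 1 ≤ a → ∀ b < 21, 1 ≤ b → a ≠ b → ∀ c < 21, 1 ≤ c → a ≠ c → b ≠ c →
    (cls a = cls b ∧ cls b = cls c) ∨ (twenty true true).testBit
      (mcode true true a ^^^ mcode true true b ^^^ mcode true true c ^^^ L6.tb true true 0) =
        false := by decide +kernel

/-- Three of four members multiplying to the code of the pair are in one class. -/
theorem cls_eq {e1 e2 : Bool} (he : (e1 || e2) = true) {a b c e : ℕ} (ha : a < 21) (a1 : 1 ≤ a)
    (hb : b < 21) (b1 : 1 ≤ b) (hc : c < 21) (c1 : 1 ≤ c) (hx : e < 21) (x1 : 1 ≤ e) (hab : a ≠ b)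
    (hac : a ≠ c) (hbc : b ≠ c)
    (h : mcode e1 e2 a ^^^ mcode e1 e2 b ^^^ mcode e1 e2 c ^^^ mcode e1 e2 e = L6.tb e1 e2 0) :
    cls a = cls b ∧ cls b = cls c := by
  have ht : (twenty e1 e2).testBit
      (mcode e1 e2 a ^^^ mcode e1 e2 b ^^^ mcode e1 e2 c ^^^ L6.tb e1 e2 0) = true := by
    rw [← h, ← Nat.xor_assoc, Nat.xor_self, Nat.zero_xor]
    exact ((mcode_lt e1 e2 e hx).2 x1).resolve_right (by simp [he])
  cases e1 <;> cases e2
  · simp at he
  · exact (cls_ft a ha a1 b hb b1 hab c hc c1 hac hbc).resolve_right (by simp [ht])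
  · exact (cls_tf a ha a1 b hb b1 hab c hc c1 hac hbc).resolve_right (by simp [ht])
  · exact (cls_tt a ha a1 b hb b1 hab c hc c1 hac hbc).resolve_right (by simp [ht])

theorem five_fixed : ∀ f : Fin 5 → Fin 5, (∀ i, f (f i) = i) → ∃ i, f i = i := by decide +kernel

end Cfsg.Agent.Transpos.Recog22
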