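import Cfsg.Agent.Lib.Transpos.Recog22.Code
import Cfsg.Agent.Lib.Transpos.Recog22.PairData

/-!
# Lines of the plane, and the quintuples of members avoiding one of them
-/

set_option autoImplicit false
set_option maxRecDepth 200000
set_option synthInstance.maxSize 100000
set_option synthInstance.maxHeartbeats 1000000

namespace Cfsg.Agent.Transpos.Recog22

/-- The sum of codes over a list. -/
def xsum (f : ℕ → ℕ) (l : List ℕ) : ℕ := (l.map f).foldr (· ^^^ ·) 0

/-- The variant. -/
def vr (e1 e2 : Bool) : ℕ := if e1 then (if e2 then 2 else 0) else 1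

theorem vr_lt : ∀ e1 e2, vr e1 e2 < 3 := by decide +kernel

/-- The quintuple through `1` and `2`. -/
def hexL (v : ℕ) : List ℕ := [[1, 2, 13, 15, 20], [1, 2, 12, 17, 19], [1, 2, 14, 16, 18]].getD v []

/-- The value of a functional at a point of the plane. -/
def fval (p q r i : ℕ) : ℕ :=
  fm (cd (L6.P i) 0) p ^^^ fm (cd (L6.P i) 2) q ^^^ fm (cd (L6.P i) 4) r

theorem line_sum (e1 e2 : Bool) (he : (e1 || e2) = true) : ∀ p < 4, ∀ q < 4, ∀ r < 4,
    (p ≠ 0 ∨ q ≠ 0 ∨ r ≠ 0) →
      ((List.range 21).filter fun i => fval p q r i == 0).length = 5 ∧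
        xsum (mcode e1 e2) ((List.range 21).filter fun i => fval p q r i == 0) = 512 := by
  cases e1 <;> cases e2 <;> first | exact absurd he (by decide) | decide +kernel

theorem P_coords : ∀ i < 21,
    L6.P i = sn (cd (L6.P i) 0) 5 ^^^ sn (cd (L6.P i) 2) 80 ^^^ sn (cd (L6.P i) 4) 1280 := by
  decide +kernel

/-- Admissible quintuples meet each line through `0` once; one of them passes through `1` and `2`. -/
def hexOK (e1 e2 : Bool) (Z : List ℕ) : Bool :=
  (xsum (mcode e1 e2) Z != mcode e1 e2 0) ||
    (((List.range 5).all fun i => (quad i).countP (fun j => Z.contains j) == 1) &&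
      (!(Z.contains 1 && Z.contains 2) || Z == hexL (vr e1 e2)))

theorem hex_tf : ((List.range' 1 20).sublistsLen 5).all (hexOK true false) = true := by decide +kernel

theorem hex_ft : ((List.range' 1 20).sublistsLen 5).all (hexOK false true) = true := by decide +kernel

theorem hex_tt : ((List.range' 1 20).sublistsLen 5).all (hexOK true true) = true := by decide +kernel

theorem hex_spec (e1 e2 : Bool) (he : (e1 || e2) = true) {Z : List ℕ}
    (hZ : Z.Sublist (List.range' 1 20)) (h5 : Z.length = 5)
    (hx : xsum (mcode e1 e2) Z = mcode e1 e2 0) :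
    (∀ i < 5, (quad i).countP (fun j => Z.contains j) = 1) ∧
      (1 ∈ Z → 2 ∈ Z → Z = hexL (vr e1 e2)) := by
  have hm := List.mem_sublistsLen.2 ⟨hZ, h5⟩
  have h : hexOK e1 e2 Z = true := by
    cases e1 <;> cases e2
    exacts [absurd he (by decide), List.all_eq_true.1 hex_ft Z hm, List.all_eq_true.1 hex_tf Z hm,
      List.all_eq_true.1 hex_tt Z hm]
  simp only [hexOK, hx, bne_self_eq_false, Bool.false_or, Bool.and_eq_true, List.all_eq_true,
    List.mem_range, beq_iff_eq, Bool.or_eq_true, Bool.not_eq_true', Bool.and_eq_false_iff] at h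
  refine ⟨h.1, fun h1 h2 => h.2.resolve_left ?_⟩
  rintro (h' | h') <;> simp [List.contains_iff_mem, h1, h2] at h'

end Cfsg.Agent.Transpos.Recog22
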