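import Cfsg.Agent.Lib.Transpos.Recog22.Conn
import Cfsg.Agent.Lib.Transpos.Recog22.ConfigData

/-!
# The trace on a plane of a member at distance two

`b` a member, `a` its member at the first point, `y` a member commuting with `a` and not with `b`.
Seen from `a`, the plane subgroup of `b` is one of `a`, on which `y` marks a line; back at `b` it
marks five further members whose product is `a`.
-/

set_option autoImplicit false
set_option maxRecDepth 20000

namespace Cfsg.Agent.Transpos.Recog22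

open Cfsg Cfsg.Agent.ClassicalSimple Cfsg.Agent.Transpos

variable {G : Type*} [Group G] [Finite G] {d : G}

theorem hn_left {a b c : ℕ} {m n k : ℕ} (hm : m < 4) (hn' : n < 4) (hk : k < 4) (w : ℕ) :
    hn (sn m a ^^^ sn n b ^^^ sn k c) w = fm m (hn a w) ^^^ fm n (hn b w) ^^^ fm k (hn c w) := by
  have hx : ∀ {p q : ℕ}, p < 4 → q < 4 → p ^^^ q < 4 := fun hp hq =>
    Nat.xor_lt_two_pow (n := 2) hp hq
  refine (el_facts _ (hn_lt ..) _ (hx (hx (fm_lt ..) (fm_lt ..)) (fm_lt ..))).2.2.2.2 ?_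
  rw [← herm_vec, vec_xor, vec_xor, vec_sn hm, vec_sn hn', vec_sn hk,
    el_xor (hx (fm_lt ..) (fm_lt ..)) (fm_lt ..), el_xor (fm_lt ..) (fm_lt ..),
    ← (el_facts m hm _ (hn_lt ..)).2.1, ← (el_facts n hn' _ (hn_lt ..)).2.1,
    ← (el_facts k hk _ (hn_lt ..)).2.1, ← herm_vec, ← herm_vec, ← herm_vec]
  simp [hermForm, add_mul, mul_assoc, Finset.sum_add_distrib, Finset.mul_sum]

namespace Loc

theorem commute_mem_hn {a : G} (M : Loc a) {c c' : ℕ} (hc : L6.Iso c) (h0 : L6.vec c ≠ 0)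
    (hc' : L6.Iso c') (h0' : L6.vec c' ≠ 0) :
    Commute (M.mem c) (M.mem c') ↔ hn c' c = 0 :=
  (M.commute_mem_iff hc h0 hc' h0').trans (herm_eq_zero_iff _ _)

theorem f10_list {a : G} (M : Loc a) (f : ℕ → ℕ) : ∀ l : List ℕ,
    ((L6.f10 M.Δ M.x (xsum f l) : ↥(Cent a)) : G) =
      (l.map fun i => ((L6.f10 M.Δ M.x (f i) : ↥(Cent a)) : G)).prod
  | [] => by simp [xsum, L6.f10_zero]
  | i :: l => by
    rw [List.map_cons, List.prod_cons, ← f10_list M f l, ← Subgroup.coe_mul, ← L6.f10_xor M.good]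
    rfl

variable (L : Loc d)
include L

open Classical in
/-- The members of the plane, other than the first, commuting with `y`. -/
noncomputable def trace {b : G} (hb : b ∈ conjugatesOf d) (y : G) : List ℕ :=
  (List.range' 1 20).filter fun j => decide (Commute y ((L.at' hb).mem (L6.P j)))

theorem mem_trace {b : G} (hb : b ∈ conjugatesOf d) (y : G) {j : ℕ} :
    j ∈ L.trace hb y ↔ (1 ≤ j ∧ j < 21) ∧ Commute y ((L.at' hb).mem (L6.P j)) := by
  classical
  simp [trace, List.mem_range'_1]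

/-- The trace has five members with product the first. -/
theorem trace_spec {b y : G} (hb : b ∈ conjugatesOf d) (hy : y ∈ conjugatesOf d)
    (hya : Commute y ((L.at' hb).mem 5)) (hyb : ¬ Commute y b) :
    (L.trace hb y).length = 5 ∧
      xsum (mcode (L6.eps (L.at' hb).Δ (L.at' hb).x L6.h1m) (L6.eps (L.at' hb).Δ (L.at' hb).x L6.h2m))
        (L.trace hb y) =
      mcode (L6.eps (L.at' hb).Δ (L.at' hb).x L6.h1m) (L6.eps (L.at' hb).Δ (L.at' hb).x L6.h2m) 0 := by
  classical
  set B := L.at' hb with hB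
  obtain ⟨a, ha⟩ : ∃ a, a = B.mem (L6.P 0) := ⟨_, rfl⟩
  have hP0 : L6.P 0 = 5 := rfl
  rw [← hP0, ← ha] at hya
  have haD : a ∈ conjugatesOf d :=
    ha ▸ L.mem_mem' hb (L6.iso_P (j := 0) (by norm_num)) (L6.iso_all.1 0 (by norm_num)).2
  set M := L.at' haD with hM
  have fA : ∀ {j}, j < 21 → B.mem (L6.P j) ∈ B.A := fun hj => B.mem_A hj
  have fD : ∀ {j}, j < 21 → B.mem (L6.P j) ∈ conjugatesOf d := fun hj =>
    L.mem_mem' hb (L6.iso_P hj) (L6.iso_all.1 _ hj).2
  have gD : ∀ {j}, j < 21 → M.mem (L6.P j) ∈ conjugatesOf d := fun hj =>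
    L.mem_mem' haD (L6.iso_P hj) (L6.iso_all.1 _ hj).2
  obtain ⟨k, hk, hkA⟩ := M.exists_conj_A (B := B.A)
    (fun u hu => mem_cent.2 (ha ▸ B.A_comm hu (fA (by norm_num))))
    (fun u hu v hv => B.A_comm hu hv) (fun u hu => B.A_sq hu) B.card_A
  have hka : k * a * k⁻¹ = a := by rw [(mem_cent.1 hk).eq, mul_inv_cancel_right]
  have hinj : ∀ {p q : G}, k * p * k⁻¹ = k * q * k⁻¹ → p = q := fun h =>
    mul_left_cancel (mul_right_cancel h)
  obtain ⟨y', hy'⟩ : ∃ y', y' = k * y * k⁻¹ := ⟨_, rfl⟩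
  have hy'D : y' ∈ conjugatesOf d := hy' ▸ conj_mem hy k
  have hy'a : Commute y' a := by
    rw [hy']; have := conj_commute hya k; rwa [hka] at this
  have hba : b ≠ a := fun h => hyb (h ▸ hya)
  have hy'ne : y' ≠ a := fun h => hyb (by
    rw [hinj ((hy'.symm.trans h).trans hka.symm), ha]
    exact B.commute_mem _)
  obtain ⟨w, hw, w0, ew⟩ := L.exists_mem' haD hy'D hy'a hy'ne
  -- the line marked by `y'`
  have hfv : ∀ {i}, i < 21 → (Commute y' (M.mem (L6.P i)) ↔
      fval (hn 5 w) (hn 80 w) (hn 1280 w) i = 0) := by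
    intro i hi
    rw [ew, Commute.symm_iff, M.commute_mem_hn (L6.iso_P hi) (L6.iso_all.1 i hi).2 hw w0, fval]
    have : hn w (L6.P i) = 0 ↔ hn (L6.P i) w = 0 := by
      rw [← herm_eq_zero_iff, ← herm_eq_zero_iff, ← Forms.hermB_apply L6.hK,
        ← Forms.hermB_apply L6.hK]
      exact ⟨fun h => L6.cx.form.comm_zero h, fun h => L6.cx.form.comm_zero h⟩
    rw [this]
    conv_lhs => rw [P_coords i hi, hn_left (cd_lt ..) (cd_lt ..) (cd_lt ..)]
  obtain ⟨jb, hjb, ejb⟩ : ∃ jb < 21, k * b * k⁻¹ = M.mem (L6.P jb) := by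
    refine ((M.members.2.1 _ ?_ ((hkA b).1 B.self_mem_A))).resolve_left
      (fun h => hba (hinj (h.trans hka.symm)))
    rw [conjugatesOf_eq haD]; exact conj_mem hb k
  have hnz : hn 5 w ≠ 0 ∨ hn 80 w ≠ 0 ∨ hn 1280 w ≠ 0 := by
    by_contra h
    push Not at h
    refine hyb ?_
    have h1 : Commute y' (M.mem (L6.P jb)) := (hfv hjb).2 (by
      simp [fval, h.1, h.2.1, h.2.2]
      have : ∀ a < 4, fm a 0 = 0 := by decide +kernel
      simp [this _ (cd_lt ..)])
    rw [← ejb, hy'] at h1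
    have := conj_commute h1 k⁻¹
    simpa [mul_assoc] using this
  set e1 := L6.eps B.Δ B.x L6.h1m
  set e2 := L6.eps B.Δ B.x L6.h2m
  set f1 := L6.eps M.Δ M.x L6.h1m
  set f2 := L6.eps M.Δ M.x L6.h2m
  obtain ⟨h5, hs⟩ := line_sum f1 f2 (L6.not_split M.good M.perf) _ (hn_lt 5 w) _ (hn_lt 80 w) _
    (hn_lt 1280 w) hnz
  set Za := (List.range 21).filter fun i => fval (hn 5 w) (hn 80 w) (hn 1280 w) i == 0 with hZa
  set Zb := L.trace hb y with hZb
  have hmemZa : ∀ {i}, i ∈ Za ↔ i < 21 ∧ Commute y' (M.mem (L6.P i)) := by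
    intro i
    simp only [hZa, List.mem_filter, List.mem_range, beq_iff_eq]
    exact ⟨fun ⟨h1, h2⟩ => ⟨h1, (hfv h1).2 h2⟩, fun ⟨h1, h2⟩ => ⟨h1, (hfv h1).1 h2⟩⟩
  have hperm : List.Perm (Zb.map fun j => k * B.mem (L6.P j) * k⁻¹)
      (Za.map fun i => M.mem (L6.P i)) := by
    refine (List.perm_ext_iff_of_nodup ?_ ?_).2 fun z => ?_
    · refine List.Nodup.map_on (fun i hi j hj e => ?_) ((List.nodup_range').filter _)
      by_contra hne
      exact (B.P_facts ((L.mem_trace hb y).1 hi).1.2 ((L.mem_trace hb y).1 hj).1.2).2 hne (hinj e)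
    · refine List.Nodup.map_on (fun i hi j hj e => ?_) (List.nodup_range.filter _)
      by_contra hne
      exact (M.P_facts (hmemZa.1 hi).1 (hmemZa.1 hj).1).2 hne e
    simp only [List.mem_map]
    constructor
    · rintro ⟨j, hj, rfl⟩
      obtain ⟨⟨j1, j21⟩, hc⟩ := (L.mem_trace hb y).1 hj
      have hm : k * B.mem (L6.P j) * k⁻¹ ∈ conjugatesOf a := by
        rw [conjugatesOf_eq haD]; exact conj_mem (fD j21) k
      rcases M.members.2.1 _ hm ((hkA _).1 (fA j21)) with h | ⟨i, hi, h⟩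
      · exact absurd ((hinj (h.trans hka.symm)).trans ha)
          ((B.P_facts j21 (by norm_num)).2 (by omega))
      · exact ⟨i, hmemZa.2 ⟨hi, by rw [← h, hy']; exact conj_commute hc k⟩, h.symm⟩
    · rintro ⟨i, hi, rfl⟩
      obtain ⟨i21, hc⟩ := hmemZa.1 hi
      have hz : k * (k⁻¹ * M.mem (L6.P i) * k) * k⁻¹ = M.mem (L6.P i) := by group
      have hzA : k⁻¹ * M.mem (L6.P i) * k ∈ B.A := (hkA _).2 (by rw [hz]; exact M.mem_A i21)
      have hzc : Commute y (k⁻¹ * M.mem (L6.P i) * k) := by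
        have := conj_commute hc k⁻¹
        rw [hy'] at this
        simpa [mul_assoc] using this
      have hm : k⁻¹ * M.mem (L6.P i) * k ∈ conjugatesOf b := by
        rw [conjugatesOf_eq hb]; simpa using conj_mem (gD i21) k⁻¹
      rcases B.members.2.1 _ hm hzA with h | ⟨j, hj, h⟩
      · exact absurd (h ▸ hzc) hyb
      · refine ⟨j, (L.mem_trace hb y).2 ⟨⟨?_, hj⟩, h ▸ hzc⟩, by rw [← h, hz]⟩
        by_contra hj0
        obtain rfl : j = 0 := by omega
        rw [← ha] at h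
        rw [h, hka] at hz
        exact M.mem_ne_self (L6.iso_P i21) (L6.iso_all.1 i i21).2 hz.symm
  refine ⟨by have := hperm.length_eq; simpa [h5] using this, ?_⟩
  have hmap : ∀ l : List ℕ, (∀ j ∈ l, j < 21) →
      (l.map fun j => B.mem (L6.P j)).prod =
        ((L6.f10 B.Δ B.x (xsum (mcode e1 e2) l) : ↥(Cent b)) : G) := fun l hl => by
    rw [B.f10_list]
    exact congrArg List.prod (List.map_congr_left fun j hj => B.mem_code (hl j hj))
  have hprod : (Za.map fun i => M.mem (L6.P i)).prod = a := by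
    calc (Za.map fun i => M.mem (L6.P i)).prod
        = ((L6.f10 M.Δ M.x (xsum (mcode f1 f2) Za) : ↥(Cent a)) : G) := by
          rw [M.f10_list]
          exact congrArg List.prod (List.map_congr_left fun i hi => M.mem_code (hmemZa.1 hi).1)
      _ = a := by rw [hs, L6.f10_z, M.hz]
  have hcp : (Zb.map fun j => k * B.mem (L6.P j) * k⁻¹).prod = a := by
    rw [← hprod]
    refine hperm.prod_eq' (List.pairwise_map.2 ?_)
    exact List.Pairwise.imp_of_mem (fun {i j} hi hj _ => conj_commute (B.A_comm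
      (fA ((L.mem_trace hb y).1 hi).1.2) (fA ((L.mem_trace hb y).1 hj).1.2)) k)
      ((List.nodup_range' (s := 1) (n := 20)).filter _)
  have hconjprod : ∀ l : List ℕ, (l.map fun j => k * B.mem (L6.P j) * k⁻¹).prod =
      k * (l.map fun j => B.mem (L6.P j)).prod * k⁻¹ := fun l => by
    induction l with
    | nil => simp
    | cons i l ih => rw [List.map_cons, List.map_cons, List.prod_cons, List.prod_cons, ih]; group
  rw [hconjprod, hmap _ (fun j hj => ((L.mem_trace hb y).1 hj).1.2)] at hcp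
  have h1 := hinj (hcp.trans hka.symm)
  rw [ha, B.mem_code (by norm_num)] at h1
  refine L6.f10_inj B.good ?_ (mcode_lt _ _ 0 (by norm_num)).1 (Subtype.ext h1)
  have : ∀ l : List ℕ, (∀ j ∈ l, j < 21) → xsum (mcode e1 e2) l < 1024 := by
    intro l hl
    induction l with
    | nil => show 0 < 1024; norm_num
    | cons i l ih =>
      exact Nat.xor_lt_two_pow (n := 10) (mcode_lt _ _ i (hl i (List.mem_cons_self ..))).1
        (ih fun j hj => hl j (List.mem_cons_of_mem _ hj))
  exact this _ fun j hj => ((L.mem_trace hb y).1 hj).1.2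

/-- The trace meets each line through the first point once; which one, through `1` and `2`. -/
theorem trace_hex {b y : G} (hb : b ∈ conjugatesOf d) (hy : y ∈ conjugatesOf d)
    (hya : Commute y ((L.at' hb).mem 5)) (hyb : ¬ Commute y b) :
    (∀ i < 5, (quad i).countP (fun j => (L.trace hb y).contains j) = 1) ∧
      (Commute y ((L.at' hb).mem (L6.P 1)) → Commute y ((L.at' hb).mem (L6.P 2)) →
        L.trace hb y = hexL (vr (L6.eps (L.at' hb).Δ (L.at' hb).x L6.h1m)
          (L6.eps (L.at' hb).Δ (L.at' hb).x L6.h2m))) := by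
  classical
  obtain ⟨h5, hx⟩ := L.trace_spec hb hy hya hyb
  obtain ⟨h1, h2⟩ := hex_spec _ _ (L6.not_split (L.at' hb).good (L.at' hb).perf)
    List.filter_sublist h5 hx
  exact ⟨h1, fun c1 c2 => h2 ((L.mem_trace hb y).2 ⟨by norm_num, c1⟩)
    ((L.mem_trace hb y).2 ⟨by norm_num, c2⟩)⟩

end Loc

end Cfsg.Agent.Transpos.Recog22
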