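import Cfsg.Agent.Lib.Transpos.Recog22.PairLemma
import Cfsg.Agent.Lib.Transpos.Recog22.ClassifyData
import Cfsg.Agent.Lib.Transpos.UnitaryMove

/-!
# The commuting graph on the class is connected

* `Loc.commute_or_conj`: two members commute or are conjugate by a rotation.
* `Loc.classify`: an involution commuting with a member is a member, a pair or separated by a pair.
* `Loc.linked`: every member is linked to `d`; hence the class generates and the centre is trivial.
-/

set_option autoImplicit false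
set_option maxRecDepth 20000

namespace Cfsg.Agent.Transpos.Recog22

open Cfsg Cfsg.Agent.ClassicalSimple Cfsg.Agent.Transpos

variable {G : Type*} [Group G] [Finite G] {d : G}

omit [Finite G] in
/-- Joined by a chain of commuting members. -/
abbrev Linked (d u y : G) : Prop :=
  Relation.ReflTransGen (fun p q => p ∈ conjugatesOf d ∧ q ∈ conjugatesOf d ∧ Commute p q) u y

omit [Finite G] in
/-- A product of two different commuting members. -/
def IsPair (d x : G) : Prop :=
  ∃ u ∈ conjugatesOf d, ∃ v ∈ conjugatesOf d, u ≠ v ∧ Commute u v ∧ x = u * v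

omit [Finite G] in
theorem Linked.symm {u y : G} (h : Linked d u y) : Linked d y u := by
  induction h with
  | refl => exact Relation.ReflTransGen.refl
  | tail _ e ih => exact Relation.ReflTransGen.head ⟨e.2.1, e.1, e.2.2.symm⟩ ih

omit [Finite G] in
theorem Linked.conj {u y : G} (h : Linked d u y) (g : G) :
    Linked d (g * u * g⁻¹) (g * y * g⁻¹) := by
  induction h with
  | refl => exact Relation.ReflTransGen.refl
  | tail _ e ih =>
    exact ih.tail ⟨conj_mem e.1 g, conj_mem e.2.1 g, by simpa using e.2.2.map (MulAut.conj g)⟩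

omit [Finite G] in
theorem Linked.of_commute {u y : G} (hu : u ∈ conjugatesOf d) (hy : y ∈ conjugatesOf d)
    (h : Commute u y) : Linked d u y := Relation.ReflTransGen.single ⟨hu, hy, h⟩

omit [Finite G] in
theorem IsPair.conj {x : G} (h : IsPair d x) (g : G) : IsPair d (g * x * g⁻¹) := by
  obtain ⟨u, hu, v, hv, hne, hc, rfl⟩ := h
  exact ⟨_, conj_mem hu g, _, conj_mem hv g, fun e => hne (mul_left_cancel (mul_right_cancel e)),
    by simpa using hc.map (MulAut.conj g), by group⟩

omit [Finite G] in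
/-- The stabiliser of the class of linked members of `y`. -/
def blockStab (y : G) : Subgroup G where
  carrier := {g | Linked d y (g * y * g⁻¹)}
  one_mem' := by show Linked d y (1 * y * 1⁻¹); simp; exact Relation.ReflTransGen.refl
  mul_mem' := fun {g h} hg hh => by
    show Linked d y (g * h * y * (g * h)⁻¹)
    rw [show g * h * y * (g * h)⁻¹ = g * (h * y * h⁻¹) * g⁻¹ by group]
    exact hg.trans (hh.conj g)
  inv_mem' := fun {g} hg => by
    have := (hg.conj g⁻¹).symm
    show Linked d y (g⁻¹ * y * g⁻¹⁻¹)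
    rwa [show g⁻¹ * (g * y * g⁻¹) * g⁻¹⁻¹ = y by group] at this

omit [Finite G] in
theorem conj_commute {a b : G} (h : Commute a b) (g : G) :
    Commute (g * a * g⁻¹) (g * b * g⁻¹) := by
  show g * a * g⁻¹ * (g * b * g⁻¹) = g * b * g⁻¹ * (g * a * g⁻¹)
  calc g * a * g⁻¹ * (g * b * g⁻¹) = g * (a * b) * g⁻¹ := by group
    _ = g * (b * a) * g⁻¹ := by rw [h.eq]
    _ = _ := by group

namespace Loc

variable (L : Loc d)
include L

/-- Two members commute or are conjugate by a rotation. -/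
theorem commute_or_conj {u y : G} (hu : u ∈ conjugatesOf d) (hy : y ∈ conjugatesOf d) :
    Commute u y ∨ ∃ m, (u * y) ^ m * u * ((u * y) ^ m)⁻¹ = y := by
  rcases dihedral (L.sqD hu) (L.sqD hy) with h | ⟨k, k1, k2, ku, ky, h⟩
  · exact Or.inr h
  refine Or.inl ?_
  rcases h with ⟨m, e, -⟩ | ⟨m, e⟩
  · have hx := conj_mem hu ((u * y) ^ m)
    rw [e] at hx
    refine (L.commute_of_mul hu hx hy (fun h => k1 (mul_eq_left.1 h.symm))
      ((Commute.refl u).mul_right ku.symm) ?_).symm
    rw [← mul_assoc, L.sqD hu, one_mul]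
    exact ky.symm
  · have hx := conj_mem hu ((u * y) ^ m)
    rw [e] at hx
    refine L.commute_of_mul hy hx hu (fun h => k1 (mul_eq_left.1 h.symm))
      ((Commute.refl y).mul_right ky.symm) ?_
    rw [← mul_assoc, L.sqD hy, one_mul]
    exact ku.symm

/-- A member commuting with a member and all twenty-one of its plane lies among them. -/
theorem eq_of_commute_plane {u y : G} (hu : u ∈ conjugatesOf d) (hy : y ∈ conjugatesOf d)
    (hc : Commute y u) (h : ∀ j < 21, Commute y ((L.at' hu).mem (L6.P j))) :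
    y = u ∨ ∃ j < 21, y = (L.at' hu).mem (L6.P j) := by
  by_cases hne : y = u
  · exact Or.inl hne
  obtain ⟨c, hc', h0, rfl⟩ := L.exists_mem' hu hy hc hne
  set M := L.at' hu
  let W3 : Fin 3 → L6.V := ![L6.vec 5, L6.vec 80, L6.vec 1280]
  have hpts : ∀ i : Fin 3, ∃ j < 21, W3 i = L6.vec (L6.P j) := fun i => by
    fin_cases i
    exacts [⟨0, by norm_num, rfl⟩, ⟨1, by norm_num, rfl⟩, ⟨2, by norm_num, rfl⟩]
  have hli : LinearIndependent L6.K W3 := by
    rw [Fintype.linearIndependent_iff]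
    intro g hg
    have key : ∀ a b c : L6.K, a • L6.vec 5 + b • L6.vec 80 + c • L6.vec 1280 = 0 →
        a = 0 ∧ b = 0 ∧ c = 0 := by decide +kernel
    obtain ⟨a, b, c⟩ := key (g 0) (g 1) (g 2) (by simpa [W3, Fin.sum_univ_three] using hg)
    intro i; fin_cases i <;> assumption
  have horth : ∀ i j, L6.hB (W3 i) (W3 j) = 0 := fun i j => by
    obtain ⟨p, hp, ep⟩ := hpts i
    obtain ⟨q, hq, eq⟩ := hpts j
    rw [Forms.hermB_apply, ep, eq]
    exact L6.pts_comm q hq p hp
  have hperp : ∀ i, L6.hB (W3 i) (L6.vec c) = 0 := fun i => by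
    obtain ⟨p, hp, ep⟩ := hpts i
    rw [Forms.hermB_apply, ep]
    exact (M.commute_mem_iff (L6.iso_P hp) (L6.iso_all.1 p hp).2 hc' h0).1 (h p hp).symm
  obtain ⟨g, hg⟩ := (Submodule.mem_span_range_iff_exists_fun L6.K).1
    (U6.mem_plane L6.cx hli horth hperp)
  have hsum : g 0 • L6.vec 5 + g 1 • L6.vec 80 + g 2 • L6.vec 1280 = L6.vec c := by
    simpa [W3, Fin.sum_univ_three] using hg
  obtain ⟨j, hj, s, hs⟩ := plane_span (g 0) (g 1) (g 2) (by
    by_contra hz
    push Not at hz
    simp [hz] at hsum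
    exact h0 hsum.symm)
  refine Or.inr ⟨j, hj, ?_⟩
  rw [hsum] at hs
  exact M.mem_congr hc' h0 (L6.iso_P hj) (fun e => h0 (by rw [hs, e, zero_smul])) hs

/-- The members in the plane subgroup by code. -/
theorem code22_mem {u : G} (hu : u ∈ conjugatesOf d) {i : ℕ} (hi : i < 22) :
    let M := L.at' hu
    let y := ((L6.f10 M.Δ M.x (code22 (L6.eps M.Δ M.x L6.h1m) (L6.eps M.Δ M.x L6.h2m) i)
      : ↥(Cent u)) : G)
    y ∈ conjugatesOf d ∧ y ∈ M.A := by
  intro M y
  refine ⟨?_, ⟨_, ⟨_, code22_lt _ _ i hi, rfl⟩, rfl⟩⟩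
  by_cases h : i < 21
  · have e : y = M.mem (L6.P i) := by simp only [y, code22, if_pos h]; exact (M.mem_code h).symm
    rw [e]
    exact L.mem_mem' hu (L6.iso_P h) (L6.iso_all.1 i h).2
  · have e : y = u := by simp only [y, code22, if_neg h, L6.f10_z, M.hz]
    rw [e]; exact hu

theorem classify {y j : G} (hy : y ∈ conjugatesOf d) (hj2 : j * j = 1) (hj1 : j ≠ 1)
    (hc : Commute j y) :
    j ∈ conjugatesOf d ∨
      (∃ u ∈ conjugatesOf d, ∃ v ∈ conjugatesOf d, u ≠ v ∧ Commute u v ∧ Commute u y ∧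
        Commute v y ∧ j = u * v) ∨
      ∃ m ∈ conjugatesOf d, ∃ q ∈ conjugatesOf d, Commute m y ∧ Commute q y ∧ Commute m j ∧
        Commute q j ∧ IsPair d (j * m) ∧ ¬ IsPair d (j * q) := by
  set M := L.at' hy
  obtain ⟨k, hk⟩ := L6.exists_conj_mem M.good (y := ⟨j, mem_cent.2 hc⟩) (Subtype.ext hj2)
  obtain ⟨c, hc1024, ec⟩ := hk
  set e1 := L6.eps M.Δ M.x L6.h1m
  set e2 := L6.eps M.Δ M.x L6.h2m
  have he : (e1 || e2) = true := L6.not_split M.good M.perf
  set F : ℕ → G := fun a => ((L6.f10 M.Δ M.x a : ↥(Cent y)) : G) with hF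
  have Fxor : ∀ a b, F (a ^^^ b) = F a * F b := fun a b => by
    simp only [hF, L6.f10_xor M.good, Subgroup.coe_mul]
  have FA : ∀ {a}, a < 1024 → F a ∈ M.A := fun ha => ⟨_, ⟨_, ha, rfl⟩, rfl⟩
  have Fy : ∀ a, Commute (F a) y := fun a => mem_cent.1 (SetLike.coe_mem _)
  have Finj : ∀ {a b}, a < 1024 → b < 1024 → F a = F b → a = b := fun ha hb h =>
    L6.f10_inj M.good ha hb (Subtype.ext h)
  have Cmem : ∀ {i}, i < 22 → F (code22 e1 e2 i) ∈ conjugatesOf d := fun hi =>
    (L.code22_mem hy hi).1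
  have clt := code22_lt e1 e2
  have hjF : (k : G) * j * (k : G)⁻¹ = F c := by
    have := congrArg Subtype.val ec
    simpa using this
  -- pairs in the plane subgroup have pair codes
  have hpair : ∀ {a}, a < 1024 → IsPair d (F a) → (pairMask e1 e2).testBit a = true := by
    rintro a ha ⟨u, hu, v, hv, hne, huv, e⟩
    have huA : ∀ w ∈ conjugatesOf d, Commute w u ∨ ¬ Commute w (u * v) := fun w hw => by
      by_cases h : Commute w (u * v)
      · exact Or.inl (L.commute_of_mul hu hv hw hne huv h)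
      · exact Or.inr h
    have hin : ∀ {p q : G}, p ∈ conjugatesOf d → q ∈ conjugatesOf d → p ≠ q → Commute p q →
        F a = p * q → ∃ i < 22, p = F (code22 e1 e2 i) := by
      intro p q hp hq hpq cpq e
      have hw : ∀ {w}, w ∈ conjugatesOf d → Commute w (F a) → Commute p w := fun hw h =>
        (L.commute_of_mul hp hq hw hpq cpq (e ▸ h)).symm
      rcases L.eq_of_commute_plane hy hp (hw hy (Fy a).symm) (fun j hj =>
        hw (L.mem_mem' hy (L6.iso_P hj) (L6.iso_all.1 j hj).2)
          (M.A_comm (M.mem_A hj) (FA ha))) with h | ⟨j, hj, h⟩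
      · exact ⟨21, by norm_num, by rw [h]; simp only [hF, code22]; rw [if_neg (lt_irrefl _),
          L6.f10_z, M.hz]⟩
      · exact ⟨j, by omega, by rw [h]; simp only [hF, code22]; rw [if_pos hj]; exact M.mem_code hj⟩
    obtain ⟨i, hi, ei⟩ := hin hu hv hne huv e
    obtain ⟨l, hl, el⟩ := hin hv hu hne.symm huv.symm (e.trans huv.eq)
    rw [ei, el, ← Fxor] at e
    rw [Finj ha (Nat.xor_lt_two_pow (n := 10) (clt i hi) (clt l hl)) e]
    exact pair_complete e1 e2 he i hi l hl fun h => hne (by rw [ei, el, h])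
  have hispair : ∀ {a}, a < 1024 → (pairMask e1 e2).testBit a = true → IsPair d (F a) := by
    intro a ha h
    obtain ⟨i, hi, l, hl, hne, e⟩ := pair_spec_aux e1 e2 he a ha h
    refine ⟨_, Cmem hi, _, Cmem hl, fun h => ?_, M.A_comm (FA (clt i hi)) (FA (clt l hl)), by
      rw [e, Fxor]⟩
    have := pair_complete e1 e2 he i hi l hl hne
    rw [Finj (clt i hi) (clt l hl) h, Nat.xor_self] at this
    revert this
    cases e1 <;> cases e2 <;> decide +kernel
  have hky : (k : G) * y * (k : G)⁻¹ = y := by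
    rw [(mem_cent.1 k.2).eq, mul_inv_cancel_right]
  have hback : ∀ {w}, Commute w y → Commute ((k : G)⁻¹ * w * k) y := fun hw =>
    ((mem_cent.1 k.2).inv_left.mul_left hw).mul_left (mem_cent.1 k.2)
  have hj' : j = (k : G)⁻¹ * F c * k := by rw [← hjF]; group
  have hc0 : c ≠ 0 := fun h => by
    rw [h] at hjF
    simp only [hF, L6.f10_zero, Subgroup.coe_one] at hjF
    exact hj1 (by rw [hj', h]; simp only [hF, L6.f10_zero, Subgroup.coe_one]; group)
  rcases code_class e1 e2 he c hc1024 hc0 with h | h | ⟨⟨i, hi, hI⟩, l, hl, hL⟩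
  · obtain ⟨i, hi, rfl⟩ := mem_spec_aux e1 e2 he c hc1024 h
    refine Or.inl ?_
    rw [hj']
    simpa using conj_mem (Cmem hi) (k : G)⁻¹
  · obtain ⟨i, hi, l, hl, -, e⟩ := pair_spec_aux e1 e2 he c hc1024 h
    obtain ⟨u, hu, v, hv, hne, huv, -⟩ := hispair hc1024 h
    refine Or.inr (Or.inl ⟨(k : G)⁻¹ * F (code22 e1 e2 i) * k,
      (by simpa using conj_mem (Cmem hi) (k : G)⁻¹), (k : G)⁻¹ * F (code22 e1 e2 l) * k,
      (by simpa using conj_mem (Cmem hl) (k : G)⁻¹),
      fun h' => ?_, ?_, hback (Fy _), hback (Fy _), ?_⟩)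
    · have := mul_left_cancel (mul_right_cancel h')
      rw [e, Finj (clt i hi) (clt l hl) this, Nat.xor_self] at hc0
      exact hc0 rfl
    · simpa using (M.A_comm (FA (clt i hi)) (FA (clt l hl))).map (MulAut.conj (k : G)⁻¹)
    · rw [hj', e, Fxor]; group
  · have hmul : ∀ a, j * ((k : G)⁻¹ * F a * k) = (k : G)⁻¹ * F (c ^^^ a) * k := fun a => by
      rw [hj', Fxor]; group
    have hcom : ∀ {a}, a < 1024 → Commute ((k : G)⁻¹ * F a * k) j := fun ha => by
      rw [hj']
      simpa using (M.A_comm (FA ha) (FA hc1024)).map (MulAut.conj (k : G)⁻¹)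
    refine Or.inr (Or.inr ⟨_, by simpa using conj_mem (Cmem hi) (k : G)⁻¹, _,
      by simpa using conj_mem (Cmem hl) (k : G)⁻¹, hback (Fy _), hback (Fy _), hcom (clt i hi),
      hcom (clt l hl), ?_, fun h => ?_⟩)
    · rw [hmul]
      simpa using (hispair (Nat.xor_lt_two_pow (n := 10) hc1024 (clt i hi)) hI).conj (k : G)⁻¹
    · rw [hmul] at h
      have h' := h.conj (k : G)
      rw [show (k : G) * ((k : G)⁻¹ * F (c ^^^ code22 e1 e2 l) * k) * (k : G)⁻¹ =
        F (c ^^^ code22 e1 e2 l) by group] at h'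
      exact Bool.false_ne_true
        (hL.symm.trans (hpair (Nat.xor_lt_two_pow (n := 10) hc1024 (clt l hl)) h'))

/-- The members commuting with `u` generate its centralizer. -/
theorem cent_le {u : G} (hu : u ∈ conjugatesOf d) {H : Subgroup G}
    (hH : ∀ e ∈ conjugatesOf d, Commute e u → e ≠ u → u * e ∈ H) : Cent u ≤ H := by
  set M := L.at' hu
  haveI : IsSimpleGroup L6.QG := by
    haveI := PSU_isSimpleGroup (F := L6.K) (n := 6) (q := 2) L6.hK (by norm_num) (by norm_num)
    exact MulEquiv.isSimpleGroup (centerQuotientCongr (suEquiv L6.hK)).symm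
  let S : Set ↥(Cent u) :=
    {x | ∃ e ∈ conjugatesOf d, Commute e u ∧ e ≠ u ∧ (x : G) = u * e}
  have hS : ∀ g : ↥(Cent u), ∀ x ∈ S, g * x * g⁻¹ ∈ S := by
    rintro g x ⟨e, he, hc, hne, hx⟩
    have hg : (g : G) * u * (g : G)⁻¹ = u := by rw [(mem_cent.1 g.2).eq, mul_inv_cancel_right]
    refine ⟨(g : G) * e * (g : G)⁻¹, conj_mem he _, ?_, fun h => hne ?_, ?_⟩
    · simpa [hg] using hc.map (MulAut.conj (g : G))
    · exact mul_left_cancel (mul_right_cancel (h.trans hg.symm))
    · rw [Subgroup.coe_mul, Subgroup.coe_mul, InvMemClass.coe_inv, hx]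
      calc (g : G) * (u * e) * (g : G)⁻¹ = (g : G) * u * (g : G)⁻¹ * ((g : G) * e * (g : G)⁻¹) := by
            group
        _ = _ := by rw [hg]
  haveI : (Subgroup.closure S).Normal := ⟨fun n hn g => by
    induction hn using Subgroup.closure_induction with
    | mem x hx => exact Subgroup.subset_closure (hS g x hx)
    | one => simp
    | mul x y _ _ hx hy => rw [← conj_mul]; exact mul_mem hx hy
    | inv x _ hx => rw [← conj_inv]; exact inv_mem hx⟩
  obtain ⟨h5, h50⟩ := L6.P0_iso
  have hmem5 : M.Δ.z * ⟨M.mem 5, mem_cent.2 (M.commute_mem 5)⟩ ∈ S :=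
    ⟨M.mem 5, L.mem_mem' hu h5 h50, M.commute_mem 5, M.mem_ne_self h5 h50, by
      rw [Subgroup.coe_mul, M.hz]⟩
  have htop := eq_top_of_notMem M.perf M.Δ.ψ M.Δ.surj
    (fun x hx y => (M.Δ.ker x hx).elim (fun h => h ▸ Commute.one_left y) (fun h => h ▸ M.Δ.zc y))
    (Subgroup.closure S) (Subgroup.subset_closure hmem5) (by
      rw [map_mul, M.Δ.ψz, one_mul, M.ψ_mem h5 h50, ← L6.pt_eq h5]
      exact U6.pt_ne_one L6.cx h5.hb h50)
  intro x hx
  have : (⟨x, hx⟩ : ↥(Cent u)) ∈ Subgroup.closure S := htop ▸ Subgroup.mem_top _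
  have hle : Subgroup.closure S ≤ H.comap (Cent u).subtype := (Subgroup.closure_le _).2 (by
    rintro y ⟨e, he, hc, hne, hy⟩
    show (y : G) ∈ H
    rw [hy]; exact hH e he hc hne)
  exact hle this

/-- Connectedness. -/
theorem linked {y : G} (hy : y ∈ conjugatesOf d) : Linked d d y := by
  by_contra hn
  have hd : d ∈ conjugatesOf d := mem_conjugatesOf_self
  let H : Subgroup G := blockStab (d := d) y
  have hyH : y ∈ H := by
    show Linked d y (y * y * y⁻¹)
    rw [mul_inv_cancel_right]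
  have hdy : ¬ Commute d y := fun h => hn (Linked.of_commute hd hy h)
  have hprod : ∀ e ∈ conjugatesOf d, Commute e d → e ≠ d → d * e ∈ H := by
    intro e he hc hne
    have p2 : d * e * (d * e) = 1 := by
      rw [hc.mul_mul_mul_comm, L.sq, L.sqD he, one_mul]
    show Linked d y (d * e * y * (d * e)⁻¹)
    rcases dihedral (L.sqD hy) p2 with ⟨m, em⟩ | ⟨k, k1, k2, ky, kp, -⟩
    · refine absurd ?_ (L.mul_notMem hd he hc.symm)
      rw [← em]; exact conj_mem hy _
    set j := (y * (d * e)) ^ k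
    rcases L.classify hy k2 k1 ky with hj | ⟨u, hu, v, hv, huv, cuv, cuy, cvy, ej⟩ |
        ⟨m, hm, q, hq, cmy, cqy, cmj, cqj, hjm, hjq⟩
    · refine absurd ?_ hn
      exact (Linked.of_commute hd hj (L.commute_of_mul hd he hj hne.symm hc.symm kp).symm).trans
        (Linked.of_commute hj hy ky)
    · have hpu : (d * e) * u * (d * e)⁻¹ = u ∨ (d * e) * u * (d * e)⁻¹ = v := by
        refine L.pair_eq hu hv (conj_mem hu _) (conj_mem hv _) huv cuv
          (conj_commute cuv _) ?_
        calc u * v = j * (d * e) * (d * e)⁻¹ := by rw [mul_inv_cancel_right, ej]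
          _ = (d * e) * (u * v) * (d * e)⁻¹ := by rw [kp.eq, ej]
          _ = _ := by group
      have h1 : Linked d y ((d * e) * u * (d * e)⁻¹) :=
        hpu.elim (fun h => by rw [h]; exact Linked.of_commute hy hu cuy.symm)
          (fun h => by rw [h]; exact Linked.of_commute hy hv cvy.symm)
      exact h1.trans (Linked.of_commute (conj_mem hu _) (conj_mem hy _)
        (conj_commute cuy _))
    · set y' := d * e * y * (d * e)⁻¹ with hy'
      have hy'D : y' ∈ conjugatesOf d := conj_mem hy _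
      have hjy' : Commute j y' := by
        have := ky.map (MulAut.conj (d * e))
        simp only [MulAut.conj_apply] at this
        rwa [← kp.eq, mul_inv_cancel_right] at this
      by_contra hl
      have hconj : ∀ w ∈ conjugatesOf d, Commute w y → Commute w j →
          ∃ g, g * y' * g⁻¹ = w ∧ Commute g j := fun w hw cwy cwj => by
        rcases L.commute_or_conj hy'D hw with h | ⟨m, em⟩
        · exact absurd ((Linked.of_commute hy hw cwy.symm).trans
            (Linked.of_commute hw hy'D h.symm)) hl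
        · exact ⟨_, em, (commute_rot hjy' cwj.symm m).symm⟩
      obtain ⟨g, hg, cg⟩ := hconj m hm cmy cmj
      obtain ⟨h, hh, ch⟩ := hconj q hq cqy cqj
      refine hjq ?_
      have := hjm.conj (h * g⁻¹)
      rwa [show h * g⁻¹ * (j * m) * (h * g⁻¹)⁻¹ = (h * g⁻¹ * j * (h * g⁻¹)⁻¹) *
          (h * g⁻¹ * m * (h * g⁻¹)⁻¹) by group, (ch.mul_left cg.inv_left).eq, mul_inv_cancel_right,
        show h * g⁻¹ * m * (h * g⁻¹)⁻¹ = q by rw [← hg, ← hh]; group] at this
  have hdH : d ∈ H := L.cent_le hd hprod (mem_cent.2 (Commute.refl d))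
  obtain ⟨m, em⟩ := (L.commute_or_conj hd hy).resolve_left hdy
  have hg : (d * y) ^ m ∈ H := pow_mem (mul_mem hdH hyH) m
  have h1 : Linked d y (((d * y) ^ m)⁻¹ * y * ((d * y) ^ m)⁻¹⁻¹) := inv_mem hg
  generalize (d * y) ^ m = g at em hg h1
  rw [show g⁻¹ * y * g⁻¹⁻¹ = d by rw [← em]; group] at h1
  exact hn h1.symm

/-- The centralizer of a member lies in the subgroup generated by the class. -/
theorem cent_le_closure {u : G} (hu : u ∈ conjugatesOf d) :
    Cent u ≤ Subgroup.closure (conjugatesOf d) :=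
  L.cent_le hu fun _ he _ _ =>
    mul_mem (Subgroup.subset_closure hu) (Subgroup.subset_closure he)

/-- A member and its neighbours have a common neighbour. -/
theorem exists_common {u v : G} (hu : u ∈ conjugatesOf d) (hv : v ∈ conjugatesOf d)
    (hc : Commute u v) :
    ∃ w ∈ conjugatesOf d, w ≠ u ∧ w ≠ v ∧ Commute w u ∧ Commute w v := by
  set M := L.at' hu
  have h0 : (0 : ℕ) < 21 := by norm_num
  have h1 : (1 : ℕ) < 21 := by norm_num
  have hwD := L.mem_mem' hu (L6.iso_P h1) (L6.iso_all.1 1 h1).2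
  have hwu := M.mem_ne_self (L6.iso_P h1) (L6.iso_all.1 1 h1).2
  by_cases hne : v = u
  · refine ⟨_, hwD, hwu, ?_, M.commute_mem _, ?_⟩
    · rw [hne]; exact hwu
    · rw [hne]; exact M.commute_mem _
  obtain ⟨c, hc', hc0, rfl⟩ := L.exists_mem' hu hv hc.symm hne
  obtain ⟨k, hk, ek⟩ := M.exists_conj_five hc' hc0
  have hku : k * u * k⁻¹ = u := by rw [(mem_cent.1 hk).eq, mul_inv_cancel_right]
  refine ⟨k * M.mem (L6.P 1) * k⁻¹, conj_mem hwD k, fun h => hwu ?_, fun h => ?_, ?_, ?_⟩
  · exact mul_left_cancel (mul_right_cancel (h.trans hku.symm))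
  · refine (M.P_facts h1 h0).2 one_ne_zero ?_
    exact mul_left_cancel (mul_right_cancel (h.trans ek.symm))
  · simpa [hku] using (M.commute_mem (L6.P 1)).map (MulAut.conj k)
  · rw [← ek]
    exact conj_commute (M.P_facts h1 h0).1 k

theorem closure_top : Subgroup.closure (conjugatesOf d) = ⊤ := by
  have key : ∀ y, Linked d d y → ∃ n ∈ Subgroup.closure (conjugatesOf d), n * d * n⁻¹ = y := by
    intro y hy
    induction hy with
    | refl => exact ⟨1, one_mem _, by group⟩
    | @tail u v _ huv ih =>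
      obtain ⟨hu, hv, hc⟩ := huv
      obtain ⟨n, hn, en⟩ := ih
      by_cases hne : u = v
      · exact ⟨n, hn, hne ▸ en⟩
      obtain ⟨w, hw, hwu, hwv, cwu, cwv⟩ := L.exists_common hu hv hc
      obtain ⟨i, hi, i0, ei⟩ := L.exists_mem' hw hu cwu.symm hwu.symm
      obtain ⟨l, hl, l0, el⟩ := L.exists_mem' hw hv cwv.symm hwv.symm
      obtain ⟨s, hs, es⟩ := (L.at' hw).exists_conj_five hi i0
      obtain ⟨t, ht, et⟩ := (L.at' hw).exists_conj_five hl l0
      refine ⟨t * s⁻¹ * n, mul_mem (L.cent_le_closure hw (mul_mem ht (inv_mem hs))) hn, ?_⟩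
      rw [el, ← et, show t * s⁻¹ * n * d * (t * s⁻¹ * n)⁻¹ = t * s⁻¹ * (n * d * n⁻¹) * s * t⁻¹ by
        group, en, ei, ← es]
      group
  refine eq_top_iff.2 fun g _ => ?_
  obtain ⟨n, hn, en⟩ := key _ (L.linked (isConj_iff.2 ⟨g, rfl⟩))
  have : n⁻¹ * g ∈ Cent d := mem_cent.2 (by
    show n⁻¹ * g * d = d * (n⁻¹ * g)
    calc n⁻¹ * g * d = n⁻¹ * (g * d * g⁻¹) * g := by group
      _ = d * (n⁻¹ * g) := by rw [← en]; group)
  have := mul_mem hn (L.cent_le_closure mem_conjugatesOf_self this)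
  rwa [mul_inv_cancel_left] at this

end Loc

end Cfsg.Agent.Transpos.Recog22
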