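import Cfsg.Agent.Lib.Transpos.Recog22.Trace
import Cfsg.Prelude.Def_SporadicB

/-!
# Diameter two: the class is one of 3-transpositions
-/

set_option autoImplicit false
set_option maxRecDepth 20000

namespace Cfsg.Agent.Transpos.Recog22

open Cfsg Cfsg.Agent.ClassicalSimple Cfsg.Agent.Transpos

variable {G : Type*} [Group G] [Finite G] {d : G}

namespace Loc

variable (L : Loc d)
include L

/-- Any member commutes with `d` or has a common neighbour with it. -/
theorem near {y : G} (hy : y ∈ conjugatesOf d) :
    Commute y d ∨ ∃ a ∈ conjugatesOf d, Commute a d ∧ Commute y a := by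
  have hd : d ∈ conjugatesOf d := mem_conjugatesOf_self
  have key : ∀ u, Linked d d u → Commute u d ∨ ∃ a ∈ conjugatesOf d, Commute a d ∧ Commute u a := by
    intro u hu
    induction hu with
    | refl => exact Or.inl (Commute.refl d)
    | @tail u z _ hz ih =>
      obtain ⟨huD, hzD, huz⟩ := hz
      by_cases hzd : Commute z d
      · exact Or.inl hzd
      refine Or.inr ?_
      by_cases hud : Commute u d
      · exact ⟨u, huD, hud, huz.symm⟩
      obtain ⟨a, ha, cad, cua⟩ := ih.resolve_left hud
      by_cases hzu : z = u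
      · exact ⟨a, ha, cad, hzu ▸ cua⟩
      obtain ⟨v, hv, k, hk, hS⟩ := L.exists_shape huD hd ha cua.symm cad.symm fun h => hud h.symm
      set M := L.at' huD with hM
      have hku : k * u * k⁻¹ = u := by rw [(mem_cent.1 hk).eq, mul_inv_cancel_right]
      obtain ⟨c, hc, h0, ec⟩ := L.exists_mem' huD (conj_mem hzD k)
        (show Commute (k * z * k⁻¹) u by
          have := conj_commute huz.symm k; rwa [hku] at this)
        (fun h => hzu (mul_left_cancel (mul_right_cancel (h.trans hku.symm))))
      rw [← M.mem_nrm hc h0] at ec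
      have hp := isPt_nrm hc h0
      have hback : ∀ {p q : G}, Commute (k * p * k⁻¹) q → Commute p (k⁻¹ * q * k) := fun h => by
        simpa [mul_assoc] using conj_commute h k⁻¹
      rcases ext_diam v hv (nrm c) hp.1 hp.2.2.1 with h | h | ⟨s, hs, h⟩
      · exact absurd h hp.2.1
      · refine absurd (Commute.symm ?_) hzd
        have h' := hback ((hS (nrm c)).2 (hp.2.2.2 ▸ List.contains_iff_mem.1 h)).2
        rwa [← ec, show k⁻¹ * (k * z * k⁻¹) * k = z by group] at h'
      · obtain ⟨hsp, hsy⟩ := (hS s).2 hs
        refine ⟨k⁻¹ * M.mem s * k, ?_, (hback hsy).symm, hback ?_⟩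
        · simpa using conj_mem (L.mem_mem' huD hsp.iso hsp.ne) k⁻¹
        · rw [ec]
          exact ((M.commute_mem_hn hsp.iso hsp.ne hp.iso hp.ne).2 h).symm
  exact key y (L.linked hy)

/-- The class is one of 3-transpositions. -/
theorem three_transpositions : IsThreeTranspositionSet (conjugatesOf d) := by
  refine ⟨fun u hu => orderOf_eq_prime (by rw [pow_two]; exact L.sqD hu) fun e => ?_, fun u hu y hy => ?_⟩
  · exact L.one_notMem (e ▸ hu)
  rcases (L.at' hu).near (y := y) (by rwa [conjugatesOf_eq hu]) with h | ⟨a, ha, cau, cya⟩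
  · left; rw [pow_two, h.mul_mul_mul_comm, L.sqD hu, L.sqD hy, one_mul]
  rw [conjugatesOf_eq hu] at ha
  rcases L.commute_or_braid ha hu hy cau.symm cya with h | h
  · left; rw [pow_two, h.symm.mul_mul_mul_comm, L.sqD hu, L.sqD hy, one_mul]
  · right
    calc (u * y) ^ 3 = u * y * u * (y * u * y) := by simp only [pow_succ, pow_zero, one_mul, mul_assoc]
      _ = u * y * u * (u * y * u) := by rw [h]
      _ = u * (y * (u * u) * y) * u := by group
      _ = 1 := by rw [L.sqD hu, mul_one, L.sqD hy, mul_one, L.sqD hu]

end Loc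

end Cfsg.Agent.Transpos.Recog22
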