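import Cfsg.Agent.Lib.Transpos.Recog22.Main
import Cfsg.Agent.Lib.Transpos.SUThreeTwo
import Cfsg.Agent.S5452
import Cfsg.Agent.S5454

/-!
# The local model from a quasisimple centralizer
-/

set_option autoImplicit false
set_option maxRecDepth 20000

namespace Cfsg.Agent.Transpos.Recog22

open Cfsg Cfsg.Agent.Transpos

theorem loc_of_hyp {G : Type*} [Group G] [Finite G] (d : G) (hd : orderOf d = 2)
    (hq : Cfsg.IsQuasisimple (Subgroup.centralizer ({d} : Set G)))
    [((Subgroup.zpowers d).subgroupOf (Subgroup.centralizer ({d} : Set G))).Normal]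
    (K : Type) [Field K] [Fintype K] (hK : Fintype.card K = 4)
    (e : (Subgroup.centralizer ({d} : Set G)) ⧸
      (Subgroup.zpowers d).subgroupOf (Subgroup.centralizer ({d} : Set G)) ≃* Cfsg.PSU 6 K 2)
    (hnwc : ∃ g : G, g * d * g⁻¹ ∈ Subgroup.centralizer ({d} : Set G) ∧ g * d * g⁻¹ ≠ d) :
    Nonempty (Loc d) := by
  obtain ⟨e'⟩ := S5454.exists_equiv K hK
  have hd2 : d * d = 1 := by
    have := pow_orderOf_eq_one d; rwa [hd, pow_two] at this
  have hd1 : d ≠ 1 := fun h => by rw [h, orderOf_one] at hd; norm_num at hd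
  have hsq : ¬ ∃ g : G, g ^ 2 = d := (Cfsg.Agent.S5452.result d hd hq K hK e hnwc).2
  have hdC : d ∈ Cent d := mem_cent.2 (Commute.refl d)
  let Z := (Subgroup.zpowers d).subgroupOf (Cent d)
  let f := e.trans e'
  exact ⟨{
    sq := hd2
    ne := hd1
    notsq := fun g h => hsq ⟨g, by rw [pow_two]; exact h⟩
    nwc := hnwc
    Δ :=
      { ψ := f.toMonoidHom.comp (QuotientGroup.mk' Z)
        z := ⟨d, hdC⟩
        surj := f.surjective.comp (QuotientGroup.mk'_surjective _)
        zz := Subtype.ext hd2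
        zc := fun x => Subtype.ext (mem_cent.1 x.2).eq.symm
        z1 := fun h => hd1 (congrArg Subtype.val h)
        ψz := by
          have h1 : QuotientGroup.mk' Z ⟨d, hdC⟩ = 1 :=
            (QuotientGroup.eq_one_iff _).2 (Subgroup.mem_subgroupOf.2 (Subgroup.mem_zpowers d))
          exact (congrArg f h1).trans (map_one f)
        ker := fun x hx => by
          have hx' : QuotientGroup.mk' Z x = 1 := f.injective (hx.trans (map_one f).symm)
          obtain ⟨n, hn⟩ := Subgroup.mem_subgroupOf.1 ((QuotientGroup.eq_one_iff x).1 hx')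
          obtain ⟨k, hk⟩ := Int.even_or_odd' n
          have hd2' : d ^ (2 : ℤ) = 1 := by rw [zpow_two]; exact hd2
          rcases hk with rfl | rfl
          · exact Or.inl (Subtype.ext (by rw [← hn]; simp [zpow_mul, hd2']))
          · exact Or.inr (Subtype.ext (by rw [← hn]; simp [zpow_add, zpow_mul, hd2'])) }
    hz := rfl
    perf := hq.1.commutator_eq_top }⟩

end Cfsg.Agent.Transpos.Recog22
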