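import Cfsg.Agent.Lib.Transpos.Recog22.S0Data
import Cfsg.Agent.Lib.Transpos.Recog22.CenterQuot
import Cfsg.Prelude.Def_FischerSpaces

/-!
# The 126 reflections of norm one in dimension six over three elements

The reflections in the vectors of `reflT` are permuted by eight of them as the 126 points of
variant `v` are by the eight generators.
-/

set_option autoImplicit false
set_option maxRecDepth 200000
set_option synthInstance.maxSize 100000
set_option synthInstance.maxHeartbeats 1000000

namespace Cfsg.Agent.Transpos.Recog22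

open Cfsg Matrix

/-- The position of a generator among the 126. -/
def gidx (j : ℕ) : ℕ := [124, 125, 93, 96, 37, 27, 24, 23].getD j 0

theorem gidx_ok : ∀ j < 8, gidx j < 126 := by decide +kernel

theorem gidx_ext : ∀ v < 3, ∀ j < 8, tbl extT v (gidx j) = tbl genT v j := by decide +kernel

/-- A trit. -/
def td (n k : ℕ) : ℕ := n / 3 ^ k % 3

/-- A code from six trits. -/
def tpack (f : ℕ → ℕ) : ℕ := f 0 + 3 * f 1 + 9 * f 2 + 27 * f 3 + 81 * f 4 + 243 * f 5

/-- The scalar product on codes. -/
def dotN (n m : ℕ) : ℕ :=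
  (td n 0 * td m 0 + td n 1 * td m 1 + td n 2 * td m 2 + td n 3 * td m 3 + td n 4 * td m 4 +
    td n 5 * td m 5) % 3

/-- The reflection in a vector of norm one, on codes. -/
def rN (g n : ℕ) : ℕ := tpack fun k => (td n k + dotN g n * td g k) % 3

/-- The negative. -/
def negN (n : ℕ) : ℕ := tpack fun k => (3 - td n k) % 3

theorem ext_invol : ∀ v < 3, ∀ j < 8, ∀ i < 126,
    tbl extA v (126 * j + tbl extA v (126 * j + i)) = i := by decide +kernel

theorem refl_ok : ∀ v < 3, ∀ i < 126, tbl reflT v i < 729 ∧ dotN (tbl reflT v i) (tbl reflT v i) = 1 := by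
  decide +kernel

theorem refl_act : ∀ v < 3, ∀ j < 8, ∀ i < 126,
    rN (tbl reflT v (gidx j)) (tbl reflT v i) = tbl reflT v (tbl extA v (126 * j + i)) ∨
      rN (tbl reflT v (gidx j)) (tbl reflT v i) = negN (tbl reflT v (tbl extA v (126 * j + i))) := by
  decide +kernel

theorem refl_nodup : ∀ v < 3,
    ((reflT.getD v []) ++ (reflT.getD v []).map negN).Nodup ∧ (reflT.getD v []).length = 126 := by
  decide +kernel

theorem refl_cover : ∀ v < 3, ∀ n < 729, dotN n n = 1 →
    (reflT.getD v []).contains n = true ∨ (reflT.getD v []).contains (negN n) = true := by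
  decide +kernel

/-- The permutation of a generator. -/
def piP (v : Fin 3) (j : Fin 8) : Equiv.Perm (Fin 126) where
  toFun i := ⟨tbl extA v (126 * j + i), (ext_act v v.2 j j.2 i i.2).1⟩
  invFun i := ⟨tbl extA v (126 * j + i), (ext_act v v.2 j j.2 i i.2).1⟩
  left_inv i := Fin.ext (ext_invol v v.2 j j.2 i i.2)
  right_inv i := Fin.ext (ext_invol v v.2 j j.2 i i.2)

/-- A generator's position. -/
def gfin (j : Fin 8) : Fin 126 := ⟨gidx j, gidx_ok j j.2⟩

theorem piP_tree (v : Fin 3) (S : Set (Fin 126)) (hg : ∀ j, gfin j ∈ S)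
    (hc : ∀ j, ∀ i ∈ S, piP v j i ∈ S) : ∀ i, i ∈ S := by
  obtain ⟨e0, el, etree⟩ := ext_tree v v.2
  have hinj : ∀ p q : ℕ, p < 126 → q < 126 → tbl extT v p = tbl extT v q → p = q := fun p q hp hq h => by
    rw [show tbl extT v p = (extL v).getD p 0 from rfl, show tbl extT v q = (extL v).getD q 0 from rfl,
      List.getD_eq_getElem _ _ (show p < (extL v).length by omega),
      List.getD_eq_getElem _ _ (show q < (extL v).length by omega)] at h
    exact (ext_nodup v v.2).getElem_inj_iff.1 h
  have step : ∀ i : Fin 126, (i : ℕ) ≠ 0 → ∃ (j : Fin 8) (p : Fin 126), (p : ℕ) < i ∧ piP v j p = i := by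
    intro i hi
    obtain ⟨h1, h2, e⟩ := etree i i.2 (by omega)
    have hp : tbl extP v i < 126 := by omega
    refine ⟨⟨_, h1⟩, ⟨_, hp⟩, h2, Fin.ext ?_⟩
    obtain ⟨hlt, e'⟩ := ext_act v v.2 _ h1 _ hp
    exact hinj _ _ hlt i.2 (e'.symm.trans e)
  -- backwards along the tree
  have h0 : (⟨0, by norm_num⟩ : Fin 126) ∈ S := by
    have back : ∀ n, ∀ i : Fin 126, (i : ℕ) = n → i ∈ S → (⟨0, by norm_num⟩ : Fin 126) ∈ S := by
      intro n
      induction n using Nat.strong_induction_on with
      | _ n ih =>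
        intro i hin hiS
        by_cases hi : (i : ℕ) = 0
        · rwa [show (⟨0, by norm_num⟩ : Fin 126) = i from Fin.ext hi.symm]
        obtain ⟨j, p, hp, e⟩ := step i hi
        refine ih p (hin ▸ hp) p rfl ?_
        have := hc j i hiS
        rwa [← e, show piP v j (piP v j p) = p from (piP v j).left_inv p] at this
    exact back _ _ rfl (hg 0)
  intro i
  induction hn : (i : ℕ) using Nat.strong_induction_on generalizing i with
  | _ n ih =>
    by_cases hi : (i : ℕ) = 0
    · rwa [show i = (⟨0, by norm_num⟩ : Fin 126) from Fin.ext hi]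
    obtain ⟨j, p, hp, e⟩ := step i hi
    exact e ▸ hc j p (ih p (hn ▸ hp) p rfl)

/-- The sum of six squares. -/
noncomputable def Q6 : QuadraticForm (ZMod 3) (Fin 6 → ZMod 3) :=
  QuadraticMap.weightedSumSquares (ZMod 3) (fun _ : Fin 6 => (1 : ZMod 3))

theorem Q6_apply (x : Fin 6 → ZMod 3) : Q6 x = x ⬝ᵥ x := by
  simp [Q6, QuadraticMap.weightedSumSquares_apply, dotProduct]

theorem Q6_polar (x y : Fin 6 → ZMod 3) : QuadraticMap.polar (⇑Q6) x y = 2 * (x ⬝ᵥ y) := by
  simp only [QuadraticMap.polar, Q6_apply, add_dotProduct, dotProduct_add, dotProduct_comm y x]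
  ring

/-- The matrix of a reflection. -/
def rmat (v : Fin 6 → ZMod 3) : Matrix (Fin 6) (Fin 6) (ZMod 3) := 1 + vecMulVec v v

theorem rmat_mulVec (v x : Fin 6 → ZMod 3) : rmat v *ᵥ x = x + (v ⬝ᵥ x) • v := by
  rw [rmat, add_mulVec, one_mulVec, vecMulVec_mulVec, op_smul_eq_smul]

theorem three_zero : (3 : ZMod 3) = 0 := by decide

theorem rmat_sq {v : Fin 6 → ZMod 3} (hv : v ⬝ᵥ v = 1) : rmat v * rmat v = 1 := by
  refine Matrix.toLin'.injective (LinearMap.ext fun x => ?_)
  simp only [toLin'_apply, ← mulVec_mulVec, rmat_mulVec, dotProduct_add, dotProduct_smul, hv,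
    smul_eq_mul, mul_one, one_mulVec, add_smul, add_assoc]
  rw [← add_smul, ← add_smul, show v ⬝ᵥ x + (v ⬝ᵥ x + v ⬝ᵥ x) = 0 from by
    linear_combination (v ⬝ᵥ x) * three_zero, zero_smul, add_zero]

theorem rmat_reflection {v : Fin 6 → ZMod 3} (hv : v ⬝ᵥ v = 1) :
    reflectionMatrix (⇑Q6) v = rmat v := by
  have hp : polarVec (⇑Q6) v = fun j => 2 * v j := funext fun j => by
    simp [polarVec, Q6_polar]
  rw [reflectionMatrix, Q6_apply, hv, hp, inv_one, one_smul, rmat, sub_eq_add_neg]
  congr 1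
  ext i j
  simp only [Matrix.neg_apply, vecMulVec_apply]
  linear_combination -(v i * v j) * three_zero

/-- The reflection as an isometry. -/
noncomputable def refl (v : Fin 6 → ZMod 3) (hv : v ⬝ᵥ v = 1) :
    isometryGroup (ZMod 3) (⇑Q6) :=
  ⟨⟨rmat v, rmat v, rmat_sq hv, rmat_sq hv⟩, fun u _ => by
    show Q6 (rmat v *ᵥ u) = Q6 u
    rw [rmat_mulVec, Q6_apply, Q6_apply, add_dotProduct, dotProduct_add, dotProduct_add,
      smul_dotProduct, dotProduct_smul, smul_dotProduct, dotProduct_smul, hv, dotProduct_comm u v,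
      smul_eq_mul, smul_eq_mul]
    linear_combination (v ⬝ᵥ u) * (v ⬝ᵥ u) * three_zero⟩

/-- The vector with a code. -/
def tvec (n : ℕ) : Fin 6 → ZMod 3 := fun k => (td n k : ℕ)

theorem td_tpack {f : ℕ → ℕ} (hf : ∀ k, f k < 3) (k : Fin 6) : td (tpack f) k = f k := by
  have := hf 0; have := hf 1; have := hf 2; have := hf 3; have := hf 4; have := hf 5
  fin_cases k <;> simp [td, tpack] <;> omega

theorem tvec_dot (n m : ℕ) : tvec n ⬝ᵥ tvec m = (dotN n m : ℕ) := by
  rw [dotN, ZMod.natCast_mod]
  simp [tvec, dotProduct, Fin.sum_univ_six]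

theorem tvec_rN (g n : ℕ) : tvec (rN g n) = rmat (tvec g) *ᵥ tvec n := by
  rw [rmat_mulVec, tvec_dot]
  funext k
  rw [Pi.add_apply, Pi.smul_apply, tvec, rN, td_tpack (fun k => Nat.mod_lt _ (by norm_num)),
    ZMod.natCast_mod]
  simp [tvec]

theorem tvec_negN (n : ℕ) : tvec (negN n) = -tvec n := funext fun k => by
  rw [Pi.neg_apply, tvec, negN, td_tpack (fun k => Nat.mod_lt _ (by norm_num)), ZMod.natCast_mod,
    Nat.cast_sub (show td n k ≤ 3 from Nat.le_of_lt (Nat.mod_lt _ (by norm_num))),
    ZMod.natCast_self, zero_sub]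
  rfl

theorem tvec_surj (x : Fin 6 → ZMod 3) : ∃ n < 729, tvec n = x := by
  refine ⟨tpack fun k => if h : k < 6 then (x ⟨k, h⟩).val else 0, ?_, funext fun k => ?_⟩
  · have := (x 0).val_lt; have := (x 1).val_lt; have := (x 2).val_lt
    have := (x 3).val_lt; have := (x 4).val_lt; have := (x 5).val_lt
    simp [tpack]
    omega
  · rw [tvec, td_tpack (fun j => by split; exacts [ZMod.val_lt _, by norm_num]), dif_pos k.2]
    exact ZMod.natCast_zmod_val _

theorem tvec_inj {n m : ℕ} (hn : n < 729) (hm : m < 729) (h : tvec n = tvec m) : n = m := by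
  have key : ∀ k : Fin 6, td n k = td m k := fun k => by
    have := congrArg ZMod.val (congrFun h k)
    simpa [tvec, ZMod.val_natCast, td] using this
  have := key 0; have := key 1; have := key 2; have := key 3; have := key 4; have := key 5
  simp [td] at *
  omega

/-- The quotient of the reflection group by its centre. -/
theorem refl_group_equiv (v : Fin 3) :
    Nonempty (reflectionSubgroup (⇑Q6) (1 : ZMod 3) ⧸
      Subgroup.center (reflectionSubgroup (⇑Q6) (1 : ZMod 3)) ≃*
        Subgroup.closure (Set.range (piP v))) := by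
  have hdot : ∀ i : Fin 126, tvec (tbl reflT v i) ⬝ᵥ tvec (tbl reflT v i) = 1 := fun i => by
    rw [tvec_dot, (refl_ok v v.2 i i.2).2, Nat.cast_one]
  let r : Fin 126 → isometryGroup (ZMod 3) (⇑Q6) := fun i => refl _ (hdot i)
  have hcoe : ∀ i, ((r i : GL (Fin 6) (ZMod 3)) : Matrix (Fin 6) (Fin 6) (ZMod 3)) =
      rmat (tvec (tbl reflT v i)) := fun i => rfl
  have hneg : ∀ x : Fin 6 → ZMod 3, rmat (-x) = rmat x := fun x => by
    rw [rmat, rmat]; congr 1; ext i j; simp [vecMulVec_apply]
  have hgen : reflectionsOfNorm (⇑Q6) (1 : ZMod 3) = Set.range r := by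
    ext g
    constructor
    · rintro ⟨x, hx, hg⟩
      rw [Q6_apply] at hx
      rw [rmat_reflection hx] at hg
      obtain ⟨n, hn, rfl⟩ := tvec_surj x
      have hd : dotN n n = 1 := by
        rw [tvec_dot, ← Nat.cast_one] at hx
        have := congrArg ZMod.val hx
        rwa [ZMod.val_natCast, ZMod.val_natCast, Nat.mod_eq_of_lt
          (show dotN n n < 3 from Nat.mod_lt _ (by norm_num))] at this
      obtain ⟨hnd, hlen⟩ := refl_nodup v v.2
      rcases refl_cover v v.2 n hn hd with h | h <;>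
        obtain ⟨i, hi, e⟩ := List.getElem_of_mem (List.contains_iff_mem.1 h)
      all_goals
        refine ⟨⟨i, hlen ▸ hi⟩, Subtype.ext (Units.ext ?_)⟩
        rw [hcoe, show tbl reflT v i = (reflT.getD v []).getD i 0 from rfl,
          List.getD_eq_getElem _ _ hi, e]
      · exact hg.symm
      · rw [tvec_negN, hneg]; exact hg.symm
    · rintro ⟨i, rfl⟩
      exact ⟨_, by rw [Q6_apply]; exact hdot i, (hcoe i).trans (rmat_reflection (hdot i)).symm⟩
  let X := reflectionSubgroup (⇑Q6) (1 : ZMod 3)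
  have hX : ∀ i, r i ∈ X := fun i => Subgroup.subset_closure (hgen ▸ ⟨i, rfl⟩)
  refine quot_center_equiv (fun i => (⟨r i, hX i⟩ : X)) ?_ ?_ gfin (piP v) ?_ (piP_tree v)
  · intro i j h
    have h' : rmat (tvec (tbl reflT v i)) = rmat (tvec (tbl reflT v j)) :=
      (hcoe i).symm.trans ((congrArg (fun g => (((g : X) : isometryGroup (ZMod 3) (⇑Q6)) :
        GL (Fin 6) (ZMod 3)).val) h).trans (hcoe j))
    set x := tvec (tbl reflT v i) with hx
    set y := tvec (tbl reflT v j) with hy
    have he := congrArg (fun M => M *ᵥ x) h'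
    simp only [rmat_mulVec, hdot i, hx ▸ hdot i, one_smul, add_right_inj] at he
    have hc : y ⬝ᵥ x = 1 ∨ y ⬝ᵥ x = -1 := by
      have h2 : (y ⬝ᵥ x) ≠ 0 := fun h0 => by
        rw [h0, zero_smul] at he
        have := hdot i
        rw [← hx, he, zero_dotProduct] at this
        exact zero_ne_one this
      revert h2; generalize y ⬝ᵥ x = t; revert t; decide
    obtain ⟨hnd, hlen⟩ := refl_nodup v v.2
    rw [List.nodup_append] at hnd
    have hi' : (i : ℕ) < (reflT.getD v []).length := by omega
    have hj' : (j : ℕ) < (reflT.getD v []).length := by omega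
    rcases hc with hc | hc <;> rw [hc] at he
    · rw [one_smul] at he
      have := tvec_inj (refl_ok v v.2 i i.2).1 (refl_ok v v.2 j j.2).1 he
      rw [show tbl reflT v i = (reflT.getD v []).getD i 0 from rfl,
        show tbl reflT v j = (reflT.getD v []).getD j 0 from rfl, List.getD_eq_getElem _ _ hi',
        List.getD_eq_getElem _ _ hj'] at this
      exact Fin.ext (hnd.1.getElem_inj_iff.1 this)
    · rw [neg_one_smul, ← tvec_negN] at he
      have hlt : negN (tbl reflT v j) < 729 := by
        simp only [negN, tpack]; omega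
      have := tvec_inj (refl_ok v v.2 i i.2).1 hlt he
      rw [show tbl reflT v i = (reflT.getD v []).getD i 0 from rfl,
        show tbl reflT v j = (reflT.getD v []).getD j 0 from rfl, List.getD_eq_getElem _ _ hi',
        List.getD_eq_getElem _ _ hj'] at this
      exact absurd this (hnd.2.2 _ (List.getElem_mem _) _ (List.mem_map.2 ⟨_, List.getElem_mem _, rfl⟩))
  · rw [eq_top_iff]
    rintro ⟨g, hg⟩ -
    have : Subgroup.closure (reflectionsOfNorm (⇑Q6) (1 : ZMod 3)) ≤
        (Subgroup.closure (Set.range fun i => (⟨r i, hX i⟩ : X))).map X.subtype := by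
      rw [Subgroup.closure_le, hgen]
      rintro _ ⟨i, rfl⟩
      exact ⟨_, Subgroup.subset_closure ⟨i, rfl⟩, rfl⟩
    obtain ⟨z, hz, e⟩ := this hg
    exact (Subtype.ext e : z = ⟨g, hg⟩) ▸ hz
  · intro j i
    refine Subtype.ext (Subtype.ext (Units.ext ?_))
    show rmat _ * rmat (tvec (tbl reflT v i)) * rmat _ = rmat (tvec (tbl reflT v (piP v j i)))
    have hconj : ∀ g x : Fin 6 → ZMod 3,
        rmat g * rmat x * rmat g = rmat g * rmat g + vecMulVec (rmat g *ᵥ x) (rmat g *ᵥ x) := by
      intro g x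
      have hsym : (rmat g)ᵀ = rmat g := by
        rw [rmat, transpose_add, transpose_one, transpose_vecMulVec]
      conv_lhs => rw [rmat.eq_def x]
      rw [mul_add, mul_one, add_mul, mul_vecMulVec, vecMulVec_mul]
      congr 2
      conv_rhs => rw [← hsym, mulVec_transpose]
    rw [hconj, rmat_sq (hdot _), ← tvec_rN]
    show rmat _ = _
    rcases refl_act v v.2 j j.2 i i.2 with h | h <;> rw [show ((gfin j : Fin 126) : ℕ) = gidx j from rfl, h]
    · rfl
    · rw [tvec_negN, hneg]; rfl

/-- The sum of six squares is non-degenerate of discriminant one. -/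
theorem Q6_nondeg : (QuadraticMap.polarBilin Q6).Nondegenerate ∧ polarGramDet (⇑Q6) = 1 := by
  have h2 : (2 : ZMod 3) ≠ 0 := by decide
  have key : ∀ x : Fin 6 → ZMod 3, (∀ y, QuadraticMap.polar (⇑Q6) x y = 0) → x = 0 := fun x h =>
    funext fun k => by
      have := h (Pi.single k 1)
      rw [Q6_polar, dotProduct_single_one] at this
      exact (mul_eq_zero.1 this).resolve_left h2
  refine ⟨⟨fun x h => key x h, fun x h => key x fun y => by
    rw [QuadraticMap.polar_comm]; exact h y⟩, ?_⟩
  have : (Matrix.of fun i j : Fin 6 => QuadraticMap.polar (⇑Q6) (Pi.single i 1) (Pi.single j 1)) =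
      Matrix.diagonal fun _ => (2 : ZMod 3) := by
    ext i j
    rw [of_apply, Q6_polar, dotProduct_single_one, diagonal_apply, Pi.single_apply]
    by_cases h : i = j <;> simp [h, Ne.symm, eq_comm]
  rw [polarGramDet, this, det_diagonal]
  decide

end Cfsg.Agent.Transpos.Recog22
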