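import Cfsg.Agent.Lib.Transpos.Recog22.Diameter
import Cfsg.Agent.Lib.Transpos.Recog22.Reflect

/-!
# The class of the transposition is of type M(22)

* `Loc.is_class`: it is a generating class of 3-transpositions.
* `Loc.type_m22`: the group with this class is of type M(22).
* `Loc.pgroup_normal_bot`: normal 2- and 3-subgroups are trivial.
-/

set_option autoImplicit false
set_option maxRecDepth 20000

namespace Cfsg.Agent.Transpos.Recog22

open Cfsg Cfsg.Agent.ClassicalSimple Cfsg.Agent.Transpos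

variable {G : Type*} [Group G] [Finite G] {d : G}

theorem isSimple_QG : IsSimpleGroup L6.QG := by
  have := PSU_isSimpleGroup (F := L6.K) (n := 6) (q := 2) L6.hK (by norm_num) (by norm_num)
  exact MulEquiv.isSimpleGroup (centerQuotientCongr (suEquiv L6.hK)).symm

theorem QG_noncomm : ∃ p q : L6.QG, ¬ Commute p q := by
  have h14 : L6.Iso 14 := (iso_iff 14).2 (by decide +kernel)
  refine ⟨U6.pt L6.cx (L6.vec 5) L6.P0_iso.1.hb, U6.pt L6.cx (L6.vec 14) h14.hb, fun h => ?_⟩
  have := (U6.pt_commute_iff L6.cx L6.P0_iso.1.hb h14.hb).1 h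
  rw [Forms.hermB_apply, herm_eq_zero_iff] at this
  revert this
  decide +kernel

theorem QG_center : Subgroup.center L6.QG = ⊥ := by
  haveI := isSimple_QG
  refine (Subgroup.Normal.eq_bot_or_eq_top inferInstance).resolve_right fun h => ?_
  obtain ⟨p, q, hpq⟩ := QG_noncomm
  exact hpq (Subgroup.mem_center_iff.1 (h ▸ Subgroup.mem_top q) p)

theorem QG_not_pgroup {p : ℕ} [Fact p.Prime] : ¬ IsPGroup p L6.QG := fun h => by
  haveI : Nontrivial L6.QG := isSimple_QG.toNontrivial
  have := h.center_nontrivial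
  rw [QG_center] at this
  exact (not_subsingleton_iff_nontrivial.2 this) inferInstance

omit [Finite G] in
theorem quot_center_congr {H K : Subgroup G} (h : H = K) :
    Nonempty (↥H ⧸ Subgroup.center ↥H ≃* ↥K ⧸ Subgroup.center ↥K) := by
  subst h; exact ⟨MulEquiv.refl _⟩

namespace Loc

theorem center_cent {a : G} (M : Loc a) {x : ↥(Cent a)} :
    x ∈ Subgroup.center ↥(Cent a) ↔ M.Δ.ψ x = 1 := by
  constructor
  · intro h
    have : M.Δ.ψ x ∈ Subgroup.center L6.QG := Subgroup.mem_center_iff.2 fun q => by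
      obtain ⟨y, rfl⟩ := M.Δ.surj q
      rw [← map_mul, ← map_mul, Subgroup.mem_center_iff.1 h y]
    rwa [QG_center, Subgroup.mem_bot] at this
  · intro h
    refine Subgroup.mem_center_iff.2 fun y => ?_
    rcases M.Δ.ker x h with rfl | rfl
    · rw [mul_one, one_mul]
    · exact (M.Δ.zc y).eq.symm

variable (L : Loc d)
include L

/-- The neighbours of a member generate its centralizer. -/
theorem closure_nbr {b : G} (hb : b ∈ conjugatesOf d) :
    Subgroup.closure {y : G | y ∈ conjugatesOf d ∧ y ≠ b ∧ Commute b y} = Cent b := by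
  classical
  refine le_antisymm ((Subgroup.closure_le _).2 fun y hy => mem_cent.2 hy.2.2.symm) ?_
  set H := Subgroup.closure {y : G | y ∈ conjugatesOf d ∧ y ≠ b ∧ Commute b y}
  set B := L.at' hb
  have hmem : ∀ j < 21, B.mem (L6.P j) ∈ H := fun j hj => Subgroup.subset_closure
    ⟨L.mem_mem' hb (L6.iso_P hj) (L6.iso_all.1 j hj).2,
      B.mem_ne_self (L6.iso_P hj) (L6.iso_all.1 j hj).2, (B.commute_mem _).symm⟩
  have hbH : b ∈ H := by
    obtain ⟨-, hs⟩ := line_sum _ _ (L6.not_split B.good B.perf) 0 (by norm_num) 0 (by norm_num) 1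
      (by norm_num) (Or.inr (Or.inr one_ne_zero))
    have h := B.f10_list (mcode (L6.eps B.Δ B.x L6.h1m) (L6.eps B.Δ B.x L6.h2m))
      ((List.range 21).filter fun i => fval 0 0 1 i == 0)
    rw [hs, L6.f10_z, B.hz] at h
    rw [h]
    refine Subgroup.list_prod_mem _ fun g hg => ?_
    obtain ⟨i, hi, rfl⟩ := List.mem_map.1 hg
    have hi' := List.mem_range.1 (List.mem_of_mem_filter hi)
    rw [← B.mem_code hi']
    exact hmem i hi'
  exact L.cent_le hb fun e he hc hne =>
    mul_mem hbH (Subgroup.subset_closure ⟨he, hne, hc.symm⟩)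

/-- Generating class of 3-transpositions. -/
theorem is_class : IsThreeTranspositionClass (conjugatesOf d) :=
  ⟨L.three_transpositions, ⟨d, mem_conjugatesOf_self, rfl⟩, L.closure_top⟩

/-- Two members that do not commute, with a common neighbour. -/
theorem exists_far : ∃ b ∈ conjugatesOf d, ∃ y ∈ conjugatesOf d, Commute b d ∧ Commute y d ∧
    ¬ Commute y b := by
  have h14 : L6.Iso 14 := (iso_iff 14).2 (by decide +kernel)
  have h140 : L6.vec 14 ≠ 0 := (vec_ne_iff (by norm_num)).2 (by norm_num)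
  refine ⟨L.mem 5, L.mem_mem L6.P0_iso.1 L6.P0_iso.2, L.mem 14, L.mem_mem h14 h140,
    L.commute_mem 5, L.commute_mem 14, fun h => ?_⟩
  have := (L.commute_mem_hn h14 h140 L6.P0_iso.1 L6.P0_iso.2).1 h
  revert this
  decide +kernel

theorem center_bot : Subgroup.center G = ⊥ := by
  refine eq_bot_iff.2 fun z hz => Subgroup.mem_bot.2 ?_
  have hzc : ∀ g, g * z = z * g := Subgroup.mem_center_iff.1 hz
  have hzC : z ∈ Cent d := mem_cent.2 (hzc d).symm
  have h1 := L.center_cent.1 (show (⟨z, hzC⟩ : ↥(Cent d)) ∈ Subgroup.center ↥(Cent d) from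
    Subgroup.mem_center_iff.2 fun y => Subtype.ext (hzc y))
  rcases L.Δ.ker _ h1 with h | h
  · exact congrArg Subtype.val h
  exfalso
  have e : z = d := (congrArg Subtype.val h).trans L.hz
  obtain ⟨b, hb, y, hy, -, -, hn⟩ := L.exists_far
  obtain ⟨g, rfl⟩ := isConj_iff.1 hb
  rw [← e, hzc g, mul_inv_cancel_right] at hn
  exact hn (hzc y)

/-- Type M(22). -/
theorem type_m22 : IsOfTypeM22 G (conjugatesOf d) := by
  classical
  obtain ⟨b, hb, y₀, hy₀, cbd, cyd, hn⟩ := L.exists_far
  obtain ⟨v, hv, k, hk, hS⟩ :=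
    L.exists_shape hb hy₀ mem_conjugatesOf_self cbd.symm cyd hn
  set B := L.at' hb with hB
  obtain ⟨y, hy⟩ : ∃ y, y = k * y₀ * k⁻¹ := ⟨_, rfl⟩
  rw [← hy] at hS
  have hyD : y ∈ conjugatesOf d := hy ▸ conj_mem hy₀ k
  have hyb : ¬ Commute y b := fun h => hn (by
    have := conj_commute h k⁻¹
    rw [hy, inv_inv] at this
    rw [show k⁻¹ * b * k = b by rw [mul_assoc, ← (mem_cent.1 hk).eq, inv_mul_cancel_left]] at this
    simpa [mul_assoc] using this)
  refine ⟨L.center_bot, b, hb, y, hyD, fun h => hyb h.symm, ?_, ?_⟩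
  · refine ⟨L6.K, inferInstance, inferInstance, G2Four.card_K4, ?_⟩
    obtain ⟨e0⟩ := quot_center_congr (L.closure_nbr hb)
    have hker : Subgroup.center ↥(Cent b) = B.Δ.ψ.ker := Subgroup.ext fun x => B.center_cent
    exact ⟨e0.trans <| ((QuotientGroup.quotientMulEquivOfEq hker).trans
      (QuotientGroup.quotientKerEquivOfSurjective B.Δ.ψ B.Δ.surj)).trans
        (centerQuotientCongr (suEquiv L6.hK)).symm⟩
  refine ⟨1, one_ne_zero, Q6, Q6_nondeg.1, Q6_nondeg.2, ?_⟩
  obtain ⟨eR⟩ := refl_group_equiv ⟨v, hv⟩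
  set T : Set G := {x : G | x ∈ conjugatesOf d ∧ x ≠ b ∧ Commute b x} ∩
    {x : G | x ∈ conjugatesOf d ∧ x ≠ y ∧ Commute y x} with hT
  obtain ⟨e0, elen, -⟩ := ext_tree v hv
  have hext : ∀ i : Fin 126, InS B y (tbl extT v i) := fun i => by
    refine (hS _).2 ?_
    rw [show tbl extT v i = (extL v).getD i 0 from rfl, List.getD_eq_getElem _ _ (show (i : ℕ) <
      (extL v).length by omega)]
    exact List.getElem_mem _
  have hin : ∀ i : Fin 126, B.mem (tbl extT v i) ∈ T := fun i => by
    have h := hext i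
    refine ⟨⟨L.mem_mem' hb h.1.iso h.1.ne, B.mem_ne_self h.1.iso h.1.ne, (B.commute_mem _).symm⟩,
      L.mem_mem' hb h.1.iso h.1.ne, fun e => hyb (e ▸ B.commute_mem _), h.2⟩
  let f : Fin 126 → ↥(Subgroup.closure T) := fun i => ⟨_, Subgroup.subset_closure (hin i)⟩
  have hsurj : ∀ x ∈ T, ∃ i, x = (f i : G) := by
    rintro x ⟨⟨hxD, hxb, cbx⟩, -, -, cyx⟩
    obtain ⟨c, hc, h0, rfl⟩ := L.exists_mem' hb hxD cbx.symm hxb
    have hmem : nrm c ∈ extL v := (hS _).1 ⟨isPt_nrm hc h0, by rw [B.mem_nrm hc h0]; exact cyx⟩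
    obtain ⟨i, hi, e⟩ := List.getElem_of_mem hmem
    refine ⟨⟨i, elen ▸ hi⟩, ?_⟩
    show _ = B.mem (tbl extT v i)
    rw [show tbl extT v i = (extL v).getD i 0 from rfl, List.getD_eq_getElem _ _ hi, e,
      B.mem_nrm hc h0]
  obtain ⟨eL⟩ := quot_center_equiv f (fun i j h => by
      have hi : (i : ℕ) < (extL v).length := by omega
      have hj : (j : ℕ) < (extL v).length := by omega
      obtain ⟨m, hm, em⟩ := B.mem_inj (hext i).1.iso (hext i).1.ne (hext j).1.iso (hext j).1.ne
        (congrArg Subtype.val h)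
      have := nrm_of_smul (hext j).1.1 hm em
      rw [(hext i).1.2.2.2, (hext j).1.2.2.2, show tbl extT v i = (extL v).getD i 0 from rfl,
        show tbl extT v j = (extL v).getD j 0 from rfl, List.getD_eq_getElem _ _ hi,
        List.getD_eq_getElem _ _ hj] at this
      exact Fin.ext ((ext_nodup v hv).getElem_inj_iff.1 this).symm)
    (eq_top_iff.2 fun z _ => by
      have hle : Subgroup.closure T ≤
          (Subgroup.closure (Set.range f)).map (Subgroup.closure T).subtype := by
        rw [Subgroup.closure_le]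
        intro x hx
        obtain ⟨i, rfl⟩ := hsurj x hx
        exact ⟨_, Subgroup.subset_closure ⟨i, rfl⟩, rfl⟩
      obtain ⟨w, hw, e⟩ := hle z.2
      exact (Subtype.ext e : w = z) ▸ hw)
    gfin (piP ⟨v, hv⟩) (fun j i => Subtype.ext (by
      show B.mem _ * B.mem _ * (B.mem _)⁻¹ = B.mem _
      have hg := hext (gfin j)
      rw [involution_inv (B.mem_sq hg.1.iso hg.1.ne), B.mem_act hg.1 (hext i).1]
      congr 1
      rw [show ((gfin j : Fin 126) : ℕ) = gidx j from rfl, gidx_ext v hv j j.2]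
      exact (ext_act v hv j j.2 i i.2).2))
    (piP_tree ⟨v, hv⟩)
  exact ⟨eL.trans eR.symm⟩

/-- Perfectness. -/
theorem perfect : commutator G = ⊤ := by
  have hd : d ∈ commutator G := by
    have h : (⟨d, mem_cent.2 (Commute.refl d)⟩ : ↥(Cent d)) ∈ commutator ↥(Cent d) := by
      rw [L.perf]; trivial
    have hle : (commutator ↥(Cent d)).map (Cent d).subtype ≤ commutator G := by
      rw [commutator_def, Subgroup.map_commutator]
      exact Subgroup.commutator_mono le_top le_top
    exact hle ⟨_, h, rfl⟩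
  rw [eq_top_iff, ← L.closure_top, Subgroup.closure_le]
  intro y hy
  obtain ⟨g, rfl⟩ := isConj_iff.1 hy
  exact (inferInstance : (commutator G).Normal).conj_mem d hd g

/-- Normal 2- and 3-subgroups are trivial. -/
theorem pgroup_normal_bot {p : ℕ} [hp : Fact p.Prime] (h23 : p = 2 ∨ p = 3) (N : Subgroup G)
    (hN : N.Normal) (hpN : IsPGroup p N) : N = ⊥ := by
  classical
  -- the part in a centralizer lies over the kernel
  have hker : ∀ {u : G} (hu : u ∈ conjugatesOf d), ∀ x ∈ N, Commute x u → x = 1 ∨ x = u := by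
    intro u hu x hx hc
    set M := L.at' hu
    haveI := isSimple_QG
    haveI : (N.subgroupOf (Cent u)).Normal := hN.subgroupOf _
    have hn : ((N.subgroupOf (Cent u)).map M.Δ.ψ).Normal := Subgroup.Normal.map inferInstance _ M.Δ.surj
    have hpi : IsPGroup p ((N.subgroupOf (Cent u)).map M.Δ.ψ) :=
      (hpN.comap_of_injective _ (Cent u).subtype_injective).map _
    have hbot := hn.eq_bot_or_eq_top.resolve_right fun h => QG_not_pgroup (p := p) (by
      rw [h] at hpi
      exact hpi.of_equiv Subgroup.topEquiv)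
    have h1 : M.Δ.ψ ⟨x, mem_cent.2 hc⟩ = 1 := by
      rw [← Subgroup.mem_bot, ← hbot]
      exact ⟨_, hx, rfl⟩
    exact (M.Δ.ker _ h1).imp (congrArg Subtype.val) fun h => (congrArg Subtype.val h).trans M.hz
  have hdN : d ∉ N := fun h => by
    have htop : N = ⊤ := by
      rw [eq_top_iff, ← L.closure_top, Subgroup.closure_le]
      intro y hy
      obtain ⟨g, rfl⟩ := isConj_iff.1 hy
      exact hN.conj_mem d h g
    subst htop
    have hG : IsPGroup p G := hpN.of_equiv Subgroup.topEquiv
    exact QG_not_pgroup (p := p) ((hG.to_subgroup (Cent d)).of_surjective L.Δ.ψ L.Δ.surj)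
  have hfix : ∀ {u}, u ∈ conjugatesOf d → ∀ x ∈ N, Commute x u → x = 1 := fun {u} hu x hx hc => by
    refine (hker hu x hx hc).resolve_right fun e => hdN ?_
    subst e
    obtain ⟨g, hg⟩ := isConj_iff.1 hu
    have := hN.conj_mem _ hx g⁻¹
    rw [← hg] at this
    simpa [mul_assoc] using this
  -- an involution without fixed points inverts
  have hinv : ∀ {u}, u ∈ conjugatesOf d → ∀ x ∈ N, u * x * u = x⁻¹ := fun {u} hu x hx => by
    have u2 := L.sqD hu
    let ψ : N → N := fun z => ⟨(z : G)⁻¹ * (u * z * u), N.mul_mem (N.inv_mem z.2) (by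
      simpa [involution_inv u2] using hN.conj_mem _ z.2 u)⟩
    have hinj : Function.Injective ψ := fun z w h => by
      have e : (z : G)⁻¹ * (u * z * u) = (w : G)⁻¹ * (u * w * u) := congrArg Subtype.val h
      have e2 : Commute ((w : G) * (z : G)⁻¹) u := by
        show (w : G) * (z : G)⁻¹ * u = u * ((w : G) * (z : G)⁻¹)
        calc (w : G) * (z : G)⁻¹ * u = (w : G) * ((z : G)⁻¹ * (u * z * u)) * (u⁻¹ * (z : G)⁻¹ * u⁻¹) * u := by
              group
          _ = u * ((w : G) * (u * (u⁻¹ * (z : G)⁻¹ * u⁻¹) * u)) := by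
              rw [e]; group
          _ = u * ((w : G) * (z : G)⁻¹) := by group
      have := hfix hu _ (N.mul_mem w.2 (N.inv_mem z.2)) e2
      exact Subtype.ext (mul_inv_eq_one.1 this).symm
    obtain ⟨z, hz⟩ := (Finite.injective_iff_surjective.1 hinj) ⟨x, hx⟩
    have e : (z : G)⁻¹ * (u * z * u) = x := congrArg Subtype.val hz
    rw [← e, show u * ((z : G)⁻¹ * (u * z * u)) * u = u * (z : G)⁻¹ * u * z * (u * u) by group,
      u2, mul_one, mul_inv_rev, inv_inv, mul_inv_rev, mul_inv_rev, involution_inv u2]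
    group
  refine eq_bot_iff.2 fun x hx => Subgroup.mem_bot.2 ?_
  -- products of two members centralize `N`
  let H : Subgroup G := Subgroup.centralizer (N : Set G)
  have hH : ∀ e ∈ conjugatesOf d, Commute e d → e ≠ d → d * e ∈ H := fun e he _ _ => by
    refine Subgroup.mem_centralizer_iff.2 fun z hz => ?_
    have h1 := hinv he z hz
    have h2 := hinv mem_conjugatesOf_self _ (N.inv_mem hz)
    rw [inv_inv, ← h1] at h2
    calc z * (d * e) = d * (e * z * e) * d * (d * e) := by rw [h2]
      _ = d * e * z * (e * (d * d) * e) := by group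
      _ = d * e * z := by rw [L.sq, mul_one, L.sqD he, mul_one]
  have hdH : d ∈ H := L.cent_le mem_conjugatesOf_self hH (mem_cent.2 (Commute.refl d))
  exact hfix mem_conjugatesOf_self x hx (Subgroup.mem_centralizer_iff.1 hdH x hx)

end Loc

end Cfsg.Agent.Transpos.Recog22
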