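import Cfsg.Agent.Lib.Transpos.Recog22.PairUnique
import Cfsg.Agent.Lib.Transpos.Recog22.PairData

/-!
# A member centralizing a product of two commuting members centralizes both

Otherwise it exchanges them, so normalizes a Sylow 2-subgroup of their joint centralizer and its
subgroup of order `2¹⁰`, permuting five quadruples of members; a fixed one gives three commuting
members with product in the class.
-/

set_option autoImplicit false
set_option maxRecDepth 20000

namespace Cfsg.Agent.Transpos.Recog22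

open Cfsg Cfsg.Agent.ClassicalSimple Cfsg.Agent.Transpos

variable {G : Type*} [Group G] [Finite G] {d : G}

namespace Loc

/-- The code of a member of the plane. -/
theorem mem_code {a : G} (L : Loc a) {j : ℕ} (hj : j < 21) :
    L.mem (L6.P j) = ((L6.f10 L.Δ L.x
      (mcode (L6.eps L.Δ L.x L6.h1m) (L6.eps L.Δ L.x L6.h2m) j) : ↥(Cent a)) : G) := by
  rw [mem_eq, mcode, L6.f10_xor L.good, L6.f10_tb L.good hj, L6.f10_z, (L.Δ.zc _).eq]
  rfl

theorem mem_A {a : G} (L : Loc a) {j : ℕ} (hj : j < 21) : L.mem (L6.P j) ∈ L.A := by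
  rw [L.mem_code hj]
  exact ⟨_, ⟨_, (mcode_lt _ _ j hj).1, rfl⟩, rfl⟩

variable (L : Loc d)
include L

/-- An element exchanging two commuting members normalizes a plane subgroup through both. -/
theorem exists_normal_plane {u w : G} (hu : u ∈ conjugatesOf d) (hw : w ∈ conjugatesOf d)
    (e : w * u * w = (L.at' hu).mem 5) :
    ∃ t, Commute t u ∧ Commute t ((L.at' hu).mem 5) ∧
      ∀ y ∈ (L.at' hu).A, t⁻¹ * w * t * y * (t⁻¹ * w * t) ∈ (L.at' hu).A := by
  classical
  set M := L.at' hu with hM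
  obtain ⟨v, hv⟩ : ∃ v, v = M.mem 5 := ⟨_, rfl⟩
  rw [← hv] at e ⊢
  have w2 := L.sqD hw
  have ev : w * v * w = u := by rw [← e]; simp [← mul_assoc, w2]; simp [mul_assoc, w2]
  let K : Subgroup G := Cent u ⊓ Cent v
  have hwK : ∀ y ∈ K, w * y * w ∈ K := fun y hy => by
    have h1 := (mem_cent.1 hy.1).map (MulAut.conj w)
    have h2 := (mem_cent.1 hy.2).map (MulAut.conj w)
    simp only [MulAut.conj_apply, involution_inv w2, e, ev] at h1 h2
    exact ⟨mem_cent.2 h2, mem_cent.2 h1⟩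
  let S0 : Subgroup G := (L6.TQ.comap M.Δ.ψ).map (Cent u).subtype
  have hS0 : S0 ≤ K := by
    rintro _ ⟨y, hy, rfl⟩
    refine ⟨y.2, mem_cent.2 ?_⟩
    obtain ⟨s, hs, es⟩ := hy
    obtain ⟨l, hl, rfl⟩ := L6.nf_perp (L6.mem_Tg.1 hs)
    have h1 : Commute (y : G) (M.Δ.Pl M.x 5 : G) := by
      rw [M.Δ.Pl_five M.good.lift]
      exact congrArg Subtype.val
        (M.Δ.commute_W L6.P0_iso.1 L6.P0_iso.2 M.good.lift l hl y es.symm).eq.symm
    rw [hv]
    exact (mem_cent.1 y.2).mul_right h1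
  let T : Subgroup ↥K := S0.subgroupOf K
  have hT : IsPGroup 2 T := by
    refine IsPGroup.of_card (n := 16) ?_
    rw [Nat.card_congr (Subgroup.subgroupOfEquivOfLe hS0).toEquiv,
      ← Nat.card_congr ((L6.TQ.comap M.Δ.ψ).equivMapOfInjective _ (Cent u).subtype_injective).toEquiv,
      L6.card_preimage_TQ]
  have hodd : ¬ 2 ∣ T.index := by
    have h := Subgroup.relIndex_mul_relIndex S0 K (Cent u) hS0 inf_le_left
    have he : S0.subgroupOf (Cent u) = L6.TQ.comap M.Δ.ψ :=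
      Subgroup.comap_map_eq_self_of_injective (Cent u).subtype_injective _
    have ho : Odd (S0.relIndex (Cent u)) := by
      rw [Subgroup.relIndex, he, Subgroup.index_comap_of_surjective _ M.Δ.surj]
      exact L6.TQ_index_odd
    rw [← h] at ho
    exact fun h2 => Nat.not_even_iff_odd.2 (Nat.odd_mul.1 ho).1 (even_iff_two_dvd.2 h2)
  haveI : Fact (Nat.Prime 2) := ⟨Nat.prime_two⟩
  let P : Sylow 2 ↥K := hT.toSylow hodd
  let φ : MulAut ↥K :=
    { toFun := fun y => ⟨w * y * w, hwK y y.2⟩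
      invFun := fun y => ⟨w * y * w, hwK y y.2⟩
      left_inv := fun y => Subtype.ext (by simp [← mul_assoc, w2]; simp [mul_assoc, w2])
      right_inv := fun y => Subtype.ext (by simp [← mul_assoc, w2]; simp [mul_assoc, w2])
      map_mul' := fun y z => Subtype.ext (by
        show w * (y * z) * w = w * y * w * (w * z * w)
        calc w * ((y : G) * z) * w = w * y * (w * w) * z * w := by rw [w2]; group
          _ = _ := by group) }
  have hφ : φ * φ = 1 := MulEquiv.ext fun y => Subtype.ext (by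
    show w * (w * y * w) * w = y
    simp [← mul_assoc, w2]; simp [mul_assoc, w2])
  haveI : Fintype (Sylow 2 ↥K) := Fintype.ofFinite _
  obtain ⟨S, hS⟩ := Equiv.Perm.exists_fixed_point_of_prime (p := 2) (n := 1)
    (σ := MulAction.toPermHom (MulAut ↥K) (Sylow 2 ↥K) φ) (by
      have := card_sylow_modEq_one 2 ↥K
      rw [← Nat.card_eq_fintype_card, Nat.ModEq] at *
      omega) (by rw [pow_one, pow_two, ← map_mul, hφ, map_one])
  obtain ⟨k, rfl⟩ := MulAction.exists_smul_eq ↥K P S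
  refine ⟨k, mem_cent.1 k.2.1, mem_cent.1 k.2.2, ?_⟩
  have hnorm : ∀ y ∈ S0, (k : G)⁻¹ * w * k * y * ((k : G)⁻¹ * w * k) ∈ S0 := fun y hy => by
    have h1 : φ (MulAut.conj k ⟨y, hS0 hy⟩) ∈ (φ • (k • P) : Sylow 2 ↥K).toSubgroup :=
      ⟨_, ⟨⟨y, hS0 hy⟩, hy, rfl⟩, rfl⟩
    rw [show φ • (k • P) = k • P from hS] at h1
    obtain ⟨z, hz, ez⟩ := h1
    have ez' : (k : G) * z * (k : G)⁻¹ = w * (k * y * (k : G)⁻¹) * w := congrArg Subtype.val ez
    have : (k : G)⁻¹ * w * k * y * ((k : G)⁻¹ * w * k) = z := by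
      calc (k : G)⁻¹ * w * k * y * ((k : G)⁻¹ * w * k)
          = (k : G)⁻¹ * (w * (k * y * (k : G)⁻¹) * w) * k := by group
        _ = z := by rw [← ez']; group
    rw [this]; exact hz
  set w' := (k : G)⁻¹ * w * k with hw'
  have w'2 : w' * w' = 1 := by
    rw [hw', show (k : G)⁻¹ * w * k * ((k : G)⁻¹ * w * k) = (k : G)⁻¹ * (w * w) * k by group, w2]
    group
  intro y hy
  let B := M.A.map (MulAut.conj w').toMonoidHom
  have hBA : ∀ z ∈ B, ∃ z' ∈ M.A, z = w' * z' * w' := by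
    rintro _ ⟨z, hz, rfl⟩
    exact ⟨z, hz, by simp [involution_inv w'2]⟩
  have hBS : B ≤ S0 := fun z hz => by
    obtain ⟨z', ⟨z'', hz'', rfl⟩, rfl⟩ := hBA z hz
    exact hnorm _ ⟨z'', L6.A0_le M.good hz'', rfl⟩
  have hBC : B ≤ Cent u := hBS.trans (hS0.trans inf_le_left)
  have hel : L6.El2 (B.subgroupOf (Cent u)) := by
    refine ⟨?_, ?_⟩
    · rintro ⟨_, _⟩ ⟨a, ha, rfl⟩ ⟨_, _⟩ ⟨b, hb, rfl⟩
      exact Subtype.ext ((M.A_comm ha hb).map _).eq
    · rintro ⟨_, _⟩ ⟨a, ha, rfl⟩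
      exact Subtype.ext (show _ * _ = (1 : G) by rw [← map_mul, M.A_sq ha, map_one])
  have hle : B.subgroupOf (Cent u) ≤ L6.TQ.comap M.Δ.ψ := fun z hz => by
    obtain ⟨z', hz', e⟩ := hBS hz
    exact Subtype.ext (p := fun x => x ∈ Cent u) e ▸ hz'
  have heq := (L6.elem_sylow M.good hel hle).2 (le_of_eq (by
    rw [Nat.card_congr (Subgroup.subgroupOfEquivOfLe hBC).toEquiv,
      ← Nat.card_congr (M.A.equivMapOfInjective _ (MulAut.conj w').injective).toEquiv, M.card_A]))
  have hyB : w' * y * w' ∈ B := ⟨y, hy, by simp [involution_inv w'2]⟩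
  exact ⟨⟨_, hBC hyB⟩, heq ▸ hyB, rfl⟩

/-- No member exchanges two commuting members. -/
theorem no_swap {u w : G} (hu : u ∈ conjugatesOf d) (hw : w ∈ conjugatesOf d)
    (e : w * u * w = (L.at' hu).mem 5) : False := by
  classical
  set M := L.at' hu with hM
  obtain ⟨t, htu, htv, hA⟩ := L.exists_normal_plane hu hw e
  obtain ⟨W, hW⟩ : ∃ W, W = t⁻¹ * w * t := ⟨_, rfl⟩
  rw [← hW] at hA
  set f : ℕ → G := fun j => M.mem (L6.P j) with hf
  have hf0 : f 0 = M.mem 5 := rfl
  have hWD : W ∈ conjugatesOf d := by rw [hW]; simpa using conj_mem hw t⁻¹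
  have W2 := L.sqD hWD
  have u2 := L.sqD hu
  have fD : ∀ {j}, j < 21 → f j ∈ conjugatesOf d := fun hj =>
    L.mem_mem' hu (L6.iso_P hj) (L6.iso_all.1 _ hj).2
  have fu : ∀ j, Commute (f j) u := fun j => M.commute_mem _
  have fne : ∀ {j}, j < 21 → f j ≠ u := fun hj => M.mem_ne_self (L6.iso_P hj) (L6.iso_all.1 _ hj).2
  have fA : ∀ {j}, j < 21 → f j ∈ M.A := fun hj => M.mem_A hj
  have hWu : W * u * W = f 0 := by
    calc W * u * W = t⁻¹ * w * (t * u * t⁻¹) * w * t := by rw [hW]; group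
      _ = t⁻¹ * (w * u * w) * t := by rw [htu.eq, mul_inv_cancel_right]; group
      _ = f 0 := by rw [e, mul_assoc, ← htv.eq, inv_mul_cancel_left, hf0]
  have hcj : Commute W (u * f 0) := by
    have h0 : W * f 0 * W = u := by
      rw [← hWu]; simp [← mul_assoc, W2]; simp [mul_assoc, W2]
    show W * (u * f 0) = u * f 0 * W
    calc W * (u * f 0) = (W * u * W) * (W * f 0 * W) * W := by
          simp [mul_assoc, W2]; simp [← mul_assoc, W2]
      _ = u * f 0 * W := by rw [hWu, h0, (fu 0).eq]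
  -- the permutation of the twenty members
  have hperm : ∀ j, j < 21 → 1 ≤ j → ∃ j', (j' < 21 ∧ 1 ≤ j') ∧ W * f j * W = f j' := by
    intro j hj j1
    have hm : W * f j * W ∈ conjugatesOf u := by
      rw [conjugatesOf_eq hu]
      simpa [involution_inv W2] using conj_mem (fD hj) W
    have hback : ∀ y, W * f j * W = y → f j = W * y * W := fun y h => by
      rw [← h]; simp [← mul_assoc, W2]; simp [mul_assoc, W2]
    rcases M.members.2.1 _ hm (hA _ (fA hj)) with h | ⟨j', hj', h⟩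
    · exact absurd ((hback _ h).trans hWu) ((M.P_facts hj (by norm_num)).2 (by omega))
    · refine ⟨j', ⟨hj', Nat.one_le_iff_ne_zero.2 fun h0 => ?_⟩, h⟩
      subst h0
      refine fne hj ?_
      rw [hback _ h, show M.mem (L6.P 0) = f 0 from rfl, ← hWu]
      simp [← mul_assoc, W2]; simp [mul_assoc, W2]
  choose π hπ eπ using hperm
  have πinv : ∀ j hj j1, π (π j hj j1) (hπ j hj j1).1 (hπ j hj j1).2 = j := fun j hj j1 => by
    by_contra hne
    refine (M.P_facts (hπ _ _ _).1 hj).2 hne ?_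
    show f _ = f j
    rw [← eπ, ← eπ]; simp [← mul_assoc, W2]; simp [mul_assoc, W2]
  have πne : ∀ j hj j1, π j hj j1 ≠ j := fun j hj j1 h => by
    have hc : Commute W (f j) := by
      have := eπ j hj j1
      rw [h] at this
      show W * f j = f j * W
      conv_rhs => rw [← this, mul_assoc _ W W, W2, mul_one]
    have hWu' := L.commute_of_mul' (fD hj) hWD hu (fD (j := 0) (by norm_num)) hc (fu j).symm
      (M.P_facts (by norm_num) hj).1 (fu 0).symm (fne (by norm_num)).symm hcj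
    refine fne (j := 0) (by norm_num) ?_
    rw [← hWu, hWu'.eq, mul_assoc, W2, mul_one]
  -- relations as codes
  set e1 := L6.eps M.Δ M.x L6.h1m
  set e2 := L6.eps M.Δ M.x L6.h2m
  have he : (e1 || e2) = true := L6.not_split M.good M.perf
  have hrel : ∀ {a b c x}, a < 21 → b < 21 → c < 21 → x < 21 →
      (f a * f b * f c * f x = u * f 0 ↔
        mcode e1 e2 a ^^^ mcode e1 e2 b ^^^ mcode e1 e2 c ^^^ mcode e1 e2 x = L6.tb e1 e2 0) := by
    intro a b c x ha hb hc hx
    have el : f a * f b * f c * f x = ((L6.f10 M.Δ M.x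
        (mcode e1 e2 a ^^^ mcode e1 e2 b ^^^ mcode e1 e2 c ^^^ mcode e1 e2 x) : ↥(Cent u)) : G) := by
      simp only [hf, M.mem_code ha, M.mem_code hb, M.mem_code hc, M.mem_code hx, e1, e2,
        L6.f10_xor M.good, Subgroup.coe_mul]
    have er : u * f 0 = ((L6.f10 M.Δ M.x (L6.tb e1 e2 0) : ↥(Cent u)) : G) := by
      rw [L6.f10_tb M.good (by norm_num)]
      show u * (u * _) = _
      rw [← mul_assoc, u2, one_mul]
      rfl
    rw [el, er]
    refine ⟨fun h => L6.f10_inj M.good ?_ ?_ (Subtype.ext h), fun h => by rw [h]⟩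
    · exact Nat.xor_lt_two_pow (n := 10) (Nat.xor_lt_two_pow (n := 10) (Nat.xor_lt_two_pow (n := 10)
        (mcode_lt _ _ a ha).1 (mcode_lt _ _ b hb).1) (mcode_lt _ _ c hc).1) (mcode_lt _ _ x hx).1
    · have : mcode e1 e2 0 ^^^ 512 = L6.tb e1 e2 0 := by
        rw [mcode, Nat.xor_assoc, Nat.xor_self, Nat.xor_zero]
      rw [← this]
      exact Nat.xor_lt_two_pow (n := 10) (mcode_lt _ _ 0 (by norm_num)).1 (by norm_num)
  have hq : ∀ {a}, a < 21 → 1 ≤ a → ∀ {b}, b < 21 → 1 ≤ b → cls a = cls b → a ≠ b →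
      ∃ c x, (c < 21 ∧ 1 ≤ c) ∧ (x < 21 ∧ 1 ≤ x) ∧ cls c = cls a ∧ a ≠ c ∧ b ≠ c ∧ x ≠ c ∧
        f a * f b * f c * f x = u * f 0 := by
    intro a ha a1 b hb b1 hab hne
    obtain ⟨hi, hamem⟩ := quad_mem a ha a1
    have hbmem : b ∈ quad (cls a) := hab ▸ (quad_mem b hb b1).2
    have key : ∀ i < 5, ∀ a ∈ quad i, ∀ b ∈ quad i, a ≠ b →
        ∃ c ∈ quad i, a ≠ c ∧ b ≠ c ∧ ∃ x ∈ quad i, x ≠ a ∧ x ≠ b ∧ x ≠ c := by decide +kernel
    obtain ⟨c, hc, hac, hbc, x, hx, hxa, hxb, hxc⟩ := key _ hi a hamem b hbmem hne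
    obtain ⟨c1, c21, ccls⟩ := quad_spec _ hi c hc
    obtain ⟨x1, x21, -⟩ := quad_spec _ hi x hx
    exact ⟨c, x, ⟨c21, c1⟩, ⟨x21, x1⟩, ccls, hac, hbc, hxc, (hrel ha hb c21 x21).2
      (quad_xor _ _ he _ hi a hamem b hbmem hne c hc hac.symm hbc.symm x hx hxa hxb hxc)⟩
  have hconj4 : ∀ a b c x : G, W * (a * b * c * x) * W =
      (W * a * W) * (W * b * W) * (W * c * W) * (W * x * W) := fun a b c x => by
    simp only [← mul_assoc]; simp [mul_assoc _ W W, W2]
  have hcls : ∀ a ha a1 b hb b1, cls a = cls b → cls (π a ha a1) = cls (π b hb b1) := by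
    intro a ha a1 b hb b1 hab
    by_cases hne : a = b
    · subst hne; rfl
    obtain ⟨c, x, ⟨hc, c1⟩, ⟨hx, x1⟩, -, hac, hbc, -, heq⟩ := hq ha a1 hb b1 hab hne
    have h := congrArg (fun y => W * y * W) heq
    simp only [hconj4, eπ a ha a1, eπ b hb b1, eπ c hc c1, eπ x hx x1] at h
    rw [hcj.eq, mul_assoc (u * f 0), W2, mul_one, hrel (hπ a ha a1).1 (hπ b hb b1).1 (hπ c hc c1).1
      (hπ x hx x1).1] at h
    have hinj : ∀ p hp p1 q hq q1, p ≠ q → π p hp p1 ≠ π q hq q1 := fun p hp p1 q hq q1 hpq h =>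
      (M.P_facts hp hq).2 hpq (by
        have e1 := eπ p hp p1
        rw [h, ← eπ q hq q1] at e1
        exact mul_left_cancel (mul_right_cancel e1))
    exact (cls_eq he (hπ a ha a1).1 (hπ a ha a1).2 (hπ b hb b1).1 (hπ b hb b1).2 (hπ c hc c1).1
      (hπ c hc c1).2 (hπ x hx x1).1 (hπ x hx x1).2 (hinj _ _ _ _ _ _ hne) (hinj _ _ _ _ _ _ hac)
      (hinj _ _ _ _ _ _ hbc) h).1
  have rep : ∀ i : Fin 5, ∃ a, (a < 21 ∧ 1 ≤ a) ∧ cls a = i := by
    have key : ∀ i : Fin 5, ∃ a < 21, 1 ≤ a ∧ cls a = i := by decide +kernel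
    intro i; obtain ⟨a, h1, h2, h3⟩ := key i; exact ⟨a, ⟨h1, h2⟩, h3⟩
  choose r hr er using rep
  let σ : Fin 5 → Fin 5 := fun i => ⟨cls (π (r i) (hr i).1 (hr i).2),
    (quad_mem _ (hπ _ _ _).1 (hπ _ _ _).2).1⟩
  obtain ⟨i, hi⟩ := five_fixed σ fun i => Fin.ext (by
    show cls (π (r (σ i)) _ _) = i
    rw [hcls _ _ _ (π (r i) (hr i).1 (hr i).2) (hπ _ _ _).1 (hπ _ _ _).2 (er (σ i)), πinv]
    exact er i)
  set a := r i with ha
  have ha21 := (hr i).1
  have a1 := (hr i).2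
  set b := π a ha21 a1 with hb
  have hb21 := (hπ a ha21 a1).1
  have b1 := (hπ a ha21 a1).2
  have hab : cls a = cls b := (er i).trans (congrArg Fin.val hi).symm
  obtain ⟨c, -, ⟨hc, c1⟩, -, hca, hac, hbc, -, -⟩ := hq ha21 a1 hb21 b1 hab
    (πne a ha21 a1).symm
  set c' := π c hc c1 with hc'
  have hc'cls : cls c' = cls a := by
    rw [hcls c hc c1 a ha21 a1 hca]; exact hab.symm
  have hinj : ∀ p hp p1 q hq q1, π p hp p1 = π q hq q1 → p = q := fun p hp p1 q hq q1 h => by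
    by_contra hpq
    refine (M.P_facts hp hq).2 hpq ?_
    have e1 := eπ p hp p1
    rw [h, ← eπ q hq q1] at e1
    exact mul_left_cancel (mul_right_cancel e1)
  obtain ⟨hi5, hamem⟩ := quad_mem a ha21 a1
  have heq : f a * f b * f c * f c' = u * f 0 :=
    (hrel ha21 hb21 hc (hπ c hc c1).1).2 (quad_xor _ _ he _ hi5 a hamem b
      (hab ▸ (quad_mem b hb21 b1).2) (πne a ha21 a1).symm c (hca ▸ (quad_mem c hc c1).2) hac.symm
      hbc.symm c' (hc'cls ▸ (quad_mem c' (hπ c hc c1).1 (hπ c hc c1).2).2)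
      (fun h => by
        have h2 : π c' (hπ c hc c1).1 (hπ c hc c1).2 = π a ha21 a1 := by congr 1
        rw [πinv] at h2
        exact hbc h2.symm)
      (fun h => hac (hinj _ _ _ _ _ _ h.symm)) (πne c hc c1))
  -- three members `W p`
  have pD : ∀ y hy y1, W * (f y * f (π y hy y1)) ∈ conjugatesOf d ∧
      Commute W (f y * f (π y hy y1)) := fun y hy y1 => by
    have hcm := (M.P_facts hy (hπ y hy y1).1).1
    have e1 : f (π y hy y1) * W = W * f y := by rw [← eπ, mul_assoc, W2, mul_one]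
    have e2 : f y * W = W * f (π y hy y1) := by
      rw [← eπ y hy y1, ← mul_assoc, ← mul_assoc, W2, one_mul]
    refine ⟨?_, ?_⟩
    · have := conj_mem hWD (f (π y hy y1))
      rwa [involution_inv (L.sqD (fD (hπ y hy y1).1)), e1, mul_assoc] at this
    · show W * (f y * f (π y hy y1)) = f y * f (π y hy y1) * W
      calc W * (f y * f (π y hy y1)) = (W * f y) * f (π y hy y1) := (mul_assoc _ _ _).symm
        _ = f (π y hy y1) * (f y * W) := by rw [← e1, mul_assoc, ← e2]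
        _ = f y * f (π y hy y1) * W := by rw [← mul_assoc, hcm.eq]
  have hD0 : W * (u * f 0) ∈ conjugatesOf d := by
    have := conj_mem hWD (f 0)
    rwa [involution_inv (L.sqD (fD (by norm_num))), show f 0 * W = W * u by
      rw [← hWu, mul_assoc, W2, mul_one], mul_assoc] at this
  obtain ⟨hD1, cW1⟩ := pD a ha21 a1
  obtain ⟨hD2, cW2⟩ := pD c hc c1
  rw [← hb] at hD1 cW1
  rw [← hc'] at hD2 cW2
  have hAc : ∀ {y z}, y ∈ M.A → z ∈ M.A → Commute y z := fun hy hz => M.A_comm hy hz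
  have hjA : u * f 0 ∈ M.A := M.A.mul_mem M.self_mem_A (fA (by norm_num))
  have hp1 : f a * f b ∈ M.A := M.A.mul_mem (fA ha21) (fA hb21)
  have hp2 : f c * f c' ∈ M.A := M.A.mul_mem (fA hc) (fA (hπ c hc c1).1)
  have comm : ∀ {p q : G}, Commute W p → Commute W q → Commute p q → Commute (W * p) (W * q) :=
    fun hp hq hpq => ((Commute.refl W).mul_right hq).mul_left (hp.symm.mul_right hpq)
  have hcc' : c' < 21 := (hπ c hc c1).1
  have e12 : f a * f b * (f c * f c') = u * f 0 := by rw [← mul_assoc]; exact heq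
  have hne1 : ∀ y z, y < 21 → z < 21 → 1 ≤ y → u * f 0 ≠ f y * f z := fun y z hy hz y1 h => by
    rcases L.pair_eq hu (fD (by norm_num)) (fD hy) (fD hz) (fne (by norm_num)).symm (fu 0).symm
      (M.P_facts hy hz).1 h with h' | h'
    · exact fne hy h'
    · exact (M.P_facts hy (by norm_num)).2 (by omega) h'
  refine L.three_notMem hD0 hD1 hD2 (comm hcj cW1 (hAc hjA hp1)) (comm hcj cW2 (hAc hjA hp2))
    (comm cW1 cW2 (hAc hp1 hp2)) (fun h => hne1 a b ha21 hb21 a1 (mul_left_cancel h))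
    (fun h => hne1 c c' hc hcc' c1 (mul_left_cancel h)) (fun h => ?_) ?_
  · rw [mul_left_cancel h, M.A_sq hp2] at e12
    exact fne (j := 0) (by norm_num)
      (by rw [← inv_eq_of_mul_eq_one_right e12.symm, involution_inv u2])
  · have : W * (u * f 0) * (W * (f a * f b)) * (W * (f c * f c')) = W := by
      rw [show W * (u * f 0) * (W * (f a * f b)) = (W * W) * ((u * f 0) * (f a * f b)) by
        rw [mul_assoc, ← mul_assoc _ W, ← hcj.eq]; group, W2, one_mul,
        ← mul_assoc, ← ((hcj.mul_right cW1)).eq, mul_assoc, mul_assoc, e12]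
      rw [M.A_sq hjA, mul_one]
    rw [this]; exact hWD

/-- A member centralizing a product of two commuting members centralizes both. -/
theorem commute_of_mul {u v w : G} (hu : u ∈ conjugatesOf d) (hv : v ∈ conjugatesOf d)
    (hw : w ∈ conjugatesOf d) (hne : u ≠ v) (cuv : Commute u v) (hc : Commute w (u * v)) :
    Commute w u := by
  have w2 := L.sqD hw
  have hconj : ∀ y, w * y * w⁻¹ = w * y * w := fun y => by rw [involution_inv w2]
  have hmem : ∀ {y}, y ∈ conjugatesOf d → w * y * w ∈ conjugatesOf d := fun {y} hy =>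
    hconj y ▸ conj_mem hy w
  have e : u * v = (w * u * w) * (w * v * w) := by
    calc u * v = u * v * (w * w) := by rw [w2, mul_one]
      _ = w * (u * v) * w := by rw [← mul_assoc, ← hc.eq]
      _ = w * u * (w * w) * v * w := by rw [w2]; group
      _ = _ := by group
  rcases L.pair_eq hu hv (hmem hu) (hmem hv) hne cuv
    (by simpa [hconj] using cuv.map (MulAut.conj w)) e with h | h
  · show w * u = u * w
    conv_rhs => rw [← h, mul_assoc, w2, mul_one]
  exfalso
  obtain ⟨c, hc', h0, rfl⟩ := L.exists_mem' hu hv cuv.symm hne.symm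
  obtain ⟨k, hk, ek⟩ := (L.at' hu).exists_conj_five hc' h0
  refine L.no_swap hu (conj_mem hw k⁻¹) ?_
  calc k⁻¹ * w * k⁻¹⁻¹ * u * (k⁻¹ * w * k⁻¹⁻¹) = k⁻¹ * w * (k * u * k⁻¹) * w * k := by group
    _ = k⁻¹ * (w * u * w) * k := by rw [(mem_cent.1 hk).eq, mul_inv_cancel_right]; group
    _ = (L.at' hu).mem 5 := by rw [h, ← ek]; group

end Loc

end Cfsg.Agent.Transpos.Recog22
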