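import Cfsg.Agent.Lib.Transpos.Recog22.Class

/-!
# A product of two commuting members has one decomposition

If `u v = u' v'` with `u'` not commuting with `u`, one descends from the 22 members of a plane
subgroup through `u` and `v`: for each of them, `q`, some member commutes with all the products
`u q` and not with `u`; but `u` is a product of these.
-/

set_option autoImplicit false
set_option maxRecDepth 20000

namespace Cfsg.Agent.Transpos.Recog22

open Cfsg Cfsg.Agent.ClassicalSimple Cfsg.Agent.Transpos

variable {G : Type*} [Group G] [Finite G] {d : G}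

namespace Loc

theorem exists_conj_five {a : G} (L : Loc a) {c : ℕ} (hc : L6.Iso c) (h0 : L6.vec c ≠ 0) :
    ∃ k ∈ Cent a, k * L.mem 5 * k⁻¹ = L.mem c := by
  obtain ⟨k, hk⟩ := U6.pt_exists_conj L6.cx L6.P0_iso.1.hb hc.hb L6.P0_iso.2 h0
  rw [L6.pt_eq L6.P0_iso.1, L6.pt_eq hc] at hk
  obtain ⟨k', rfl⟩ := L.Δ.surj k
  refine ⟨k', k'.2, ?_⟩
  rw [mem_eq, mem_eq, L.Δ.Pl_eq L.good.lift hk, L.Δ.Pl_five L.good.lift]
  simp only [Subgroup.coe_mul, InvMemClass.coe_inv]
  have hzk : Commute (L.Δ.z : G) k' := congrArg Subtype.val (L.Δ.zc k').eq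
  calc (k' : G) * (L.Δ.z * L.x) * (k' : G)⁻¹ = (k' * L.Δ.z) * L.x * (k' : G)⁻¹ := by group
    _ = (L.Δ.z : G) * (k' * L.x * (k' : G)⁻¹) := by rw [← hzk.eq]; group

theorem P_facts {a : G} (L : Loc a) {i j : ℕ} (hi : i < 21) (hj : j < 21) :
    Commute (L.mem (L6.P i)) (L.mem (L6.P j)) ∧ (i ≠ j → L.mem (L6.P i) ≠ L.mem (L6.P j)) := by
  refine ⟨(L.commute_mem_iff (L6.iso_P hi) (L6.iso_all.1 i hi).2 (L6.iso_P hj)
    (L6.iso_all.1 j hj).2).2 (L6.pts_comm j hj i hi), fun hne e => ?_⟩
  obtain ⟨m, -, em⟩ := L.mem_inj (L6.iso_P hi) (L6.iso_all.1 i hi).2 (L6.iso_P hj)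
    (L6.iso_all.1 j hj).2 e
  exact L6.pts_indep j hj i hi hne.symm m em

variable (L : Loc d)
include L

private theorem no_second {u w w' : G} (hu : u ∈ conjugatesOf d) (hw : w ∈ conjugatesOf d)
    (hw' : w' ∈ conjugatesOf d) (cww : Commute w w')
    (e : u * (L.at' hu).mem (L6.P 0) = w * w') : Commute w u := by
  by_contra hn
  set M := L.at' hu with hM
  set f : ℕ → G := fun j => M.mem (L6.P j) with hf
  have fD : ∀ {j}, j < 21 → f j ∈ conjugatesOf d := fun hj =>
    L.mem_mem' hu (L6.iso_P hj) (L6.iso_all.1 _ hj).2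
  have fu : ∀ j, Commute (f j) u := fun j => M.commute_mem _
  have fne : ∀ {j}, j < 21 → f j ≠ u := fun hj => M.mem_ne_self (L6.iso_P hj) (L6.iso_all.1 _ hj).2
  have u2 := L.sqD hu
  have key : ∀ n, n ≤ 20 → ∃ w ∈ conjugatesOf d, ¬ Commute w u ∧
      ∀ j ≤ n, Commute w (u * f j) ∧ w * (u * f j) ∈ conjugatesOf d := by
    intro n
    induction n with
    | zero =>
      intro _
      refine ⟨w, hw, hn, fun j hj => ?_⟩
      obtain rfl : j = 0 := Nat.le_zero.1 hj
      show Commute w (u * M.mem (L6.P 0)) ∧ w * (u * M.mem (L6.P 0)) ∈ _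
      rw [e, ← mul_assoc, L.sqD hw, one_mul]
      exact ⟨(Commute.refl w).mul_right cww, hw'⟩
    | succ n ih =>
      intro hn21
      obtain ⟨w, hw, hn, hE⟩ := ih (by omega)
      obtain ⟨hc0, hD0⟩ := hE 0 (Nat.zero_le n)
      set q := f (n + 1) with hq
      have hq21 : n + 1 < 21 := by omega
      have hqD := fD hq21
      have hqE : ∀ j ≤ n, Commute q (u * f j) := fun j hj =>
        (fu (n + 1)).mul_right (M.P_facts hq21 (show j < 21 by omega)).1
      have hq0 : q * (u * f 0) ∉ conjugatesOf d := by
        rw [← mul_assoc]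
        exact L.three_notMem hqD hu (fD (by norm_num)) (fu _) (M.P_facts hq21 (by norm_num)).1
          (fu 0).symm (fne hq21) ((M.P_facts hq21 (by norm_num)).2 (by omega))
          (fne (by norm_num)).symm
      have hE' : ∀ j ≤ n, ∀ m : ℕ, Commute (u * f j) ((q * w) ^ m) := fun j hj m =>
        commute_rot (hqE j hj).symm (hE j hj).1.symm m
      rcases dihedral (L.sqD hqD) (L.sqD hw) with ⟨m, em⟩ | ⟨k, k1, k2, kq, kw, hcase⟩
      · refine absurd ?_ hq0
        have e1 : ((q * w) ^ m)⁻¹ * w * (q * w) ^ m = q := by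
          calc ((q * w) ^ m)⁻¹ * w * (q * w) ^ m
              = ((q * w) ^ m)⁻¹ * ((q * w) ^ m * q * ((q * w) ^ m)⁻¹) * (q * w) ^ m := by
                rw [show (q * w) ^ m * q * ((q * w) ^ m)⁻¹ = w from em]
            _ = q := by group
        have := conj_mem hD0 ((q * w) ^ m)⁻¹
        rwa [inv_inv, show ((q * w) ^ m)⁻¹ * (w * (u * f 0)) * (q * w) ^ m =
          ((q * w) ^ m)⁻¹ * w * ((u * f 0) * (q * w) ^ m) by group, (hE' 0 (Nat.zero_le n) m).eq,
          ← mul_assoc, e1] at this
      set i := (q * w) ^ k with hi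
      rcases hcase with ⟨m, eq', ew⟩ | ⟨m, em⟩
      · -- `i` would be a product of `w` and a conjugate
        have hr : w * i ∈ conjugatesOf d := ew ▸ conj_mem hw _
        have hr0 : w * i * (u * f 0) ∈ conjugatesOf d := by
          have := conj_mem hD0 ((q * w) ^ m)
          rwa [show (q * w) ^ m * (w * (u * f 0)) * ((q * w) ^ m)⁻¹ = ((q * w) ^ m * w * ((q * w) ^ m)⁻¹) *
            ((q * w) ^ m * (u * f 0) * ((q * w) ^ m)⁻¹) by group, ew,
            ← (hE' 0 (Nat.zero_le n) m).eq, mul_inv_cancel_right] at this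
        have ci0 : Commute (u * f 0) i := hE' 0 (Nat.zero_le n) k
        have cwi : Commute w (w * i) := (Commute.refl w).mul_right kw.symm
        have ciE : Commute (w * i) (w * (u * f 0)) :=
          cwi.symm.mul_right (hc0.mul_left ci0.symm)
        have cwE : Commute w (w * (u * f 0)) := (Commute.refl w).mul_right hc0
        by_cases h3 : w * i = w * (u * f 0)
        · refine absurd ?_ hq0
          rw [← mul_left_cancel h3, ← eq']
          exact conj_mem hqD _
        refine absurd ?_ (L.three_notMem hr hw hD0 cwi.symm ciE cwE (fun h => k1 (mul_eq_left.1 h))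
          h3 (fun h => ?_))
        · rw [show w * i * w * (w * (u * f 0)) = w * i * (w * w) * (u * f 0) by group, L.sqD hw,
            mul_one]
          exact hr0
        · have h1 : u * f 0 = 1 := mul_eq_left.1 h.symm
          exact fne (show 0 < 21 by norm_num)
            (by rw [← inv_eq_of_mul_eq_one_right h1, involution_inv u2])
      · -- `q i` is conjugate to `w`
        have hwi : w * i ∈ conjugatesOf d := em ▸ conj_mem hqD _
        have eqi : ((q * w) ^ m)⁻¹ * w * (q * w) ^ m = q * i := by
          have hci : Commute i ((q * w) ^ m) := (Commute.refl _).pow_pow _ _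
          calc ((q * w) ^ m)⁻¹ * w * (q * w) ^ m
              = ((q * w) ^ m)⁻¹ * (w * i) * (i⁻¹ * (q * w) ^ m) := by group
            _ = ((q * w) ^ m)⁻¹ * ((q * w) ^ m * q * ((q * w) ^ m)⁻¹) * ((q * w) ^ m * i⁻¹) := by
                rw [em, hci.inv_left.eq]
            _ = q * i⁻¹ := by group
            _ = q * i := by rw [involution_inv k2]
        have hqi : q * i ∈ conjugatesOf d := by
          rw [← eqi]
          simpa using conj_mem hw ((q * w) ^ m)⁻¹
        have hqiE : ∀ j ≤ n, q * i * (u * f j) ∈ conjugatesOf d := fun j hj => by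
          have := conj_mem (hE j hj).2 ((q * w) ^ m)⁻¹
          rwa [inv_inv, show ((q * w) ^ m)⁻¹ * (w * (u * f j)) * (q * w) ^ m =
            ((q * w) ^ m)⁻¹ * w * ((u * f j) * (q * w) ^ m) by group, (hE' j hj m).eq, ← mul_assoc,
            eqi] at this
        have cq : Commute (q * i) q := (Commute.refl q).mul_left kq
        have cqE : Commute (q * i) (u * f 0) :=
          (hqE 0 (Nat.zero_le n)).mul_left (hE' 0 (Nat.zero_le n) k).symm
        have cu : Commute (q * i) u := L.commute_of_mul' hqD hqi hu (fD (by norm_num)) cq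
          (fu (n + 1)).symm (M.P_facts (by norm_num) hq21).1 (fu 0).symm (fne (by norm_num)).symm cqE
        have hmem : ∀ j ≤ n, q * i = u ∨ q * i = f j := fun j hj => by
          by_contra h
          push Not at h
          refine L.three_notMem hqi hu (fD (show j < 21 by omega)) cu ?_ (fu j).symm h.1 h.2
            (fne (show j < 21 by omega)).symm ?_
          · have := cu.mul_right ((hqE j hj).mul_left (hE' j hj k).symm)
            rwa [← mul_assoc, u2, one_mul] at this
          · rw [mul_assoc]; exact hqiE j hj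
        have hiu : ∀ y, q * i = y → i = q * y := fun y h => by
          rw [← h, ← mul_assoc, L.sqD hqD, one_mul]
        by_cases hqu : q * i = u
        · have e : u * q = i := by rw [hiu u hqu, (fu (n + 1)).eq]
          refine ⟨w, hw, hn, fun j hj => ?_⟩
          rcases Nat.of_le_succ hj with hj | rfl
          · exact hE j hj
          · rw [← hq, e]; exact ⟨kw.symm, hwi⟩
        · obtain rfl : n = 0 := by
            by_contra h0
            exact (M.P_facts (show 0 < 21 by norm_num) (show 1 < 21 by norm_num)).2 (by norm_num)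
              (((hmem 0 (Nat.zero_le n)).resolve_left hqu).symm.trans
                ((hmem 1 (by omega)).resolve_left hqu))
          have hq0' := (hmem 0 le_rfl).resolve_left hqu
          have ei := hiu _ hq0'
          have u0 : Commute (u * f 0) u := (Commute.refl u).mul_left (fu 0)
          refine ⟨w * (u * f 0), hD0, fun h => hn ?_, fun j hj => ?_⟩
          · have := h.mul_left u0
            rwa [mul_assoc, show u * f 0 * (u * f 0) = 1 by
              rw [((fu 0).mul_mul_mul_comm u (f 0)), u2, L.sqD (fD (by norm_num)), one_mul],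
              mul_one] at this
          have hsq0 : u * f 0 * (u * f 0) = 1 := by
            rw [((fu 0).mul_mul_mul_comm u (f 0)), u2, L.sqD (fD (by norm_num)), one_mul]
          rcases Nat.of_le_succ hj with hj | rfl
          · obtain rfl : j = 0 := Nat.le_zero.1 hj
            exact ⟨hc0.mul_left (Commute.refl _), by rw [mul_assoc, hsq0, mul_one]; exact hw⟩
          · have huq : Commute (u * f 0) (u * q) :=
              ((Commute.refl u).mul_right (fu 1).symm).mul_left
                ((fu 0).mul_right (M.P_facts (by norm_num) (by norm_num)).1)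
            have e2 : (u * f 0) * (u * q) = i := by
              rw [(fu 0).mul_mul_mul_comm u q, u2, one_mul, ei,
                (M.P_facts (i := 0) (j := 1) (by norm_num) (by norm_num)).1.eq]
            have cwq : Commute w (u * q) := by
              have := hc0.mul_right kw.symm
              rwa [← e2, ← mul_assoc, hsq0, one_mul] at this
            refine ⟨cwq.mul_left huq, ?_⟩
            rw [mul_assoc, ← hq, e2]
            exact hwi
  obtain ⟨w, -, hn, hE⟩ := key 20 le_rfl
  refine hn ?_
  have hPb : ∀ j < 21, Commute w ((M.Δ.Pb M.x j : ↥(Cent u)) : G) := fun j hj => by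
    have := (hE j (Nat.le_of_lt_succ hj)).1
    simp only [hf, Loc.mem, ← mul_assoc, u2, one_mul] at this
    exact this
  have hPhi : ∀ m, Commute w ((M.Δ.Phi M.x m : ↥(Cent u)) : G) := fun m => by
    show Commute w ((Cent u).subtype (M.Δ.Phi M.x m))
    rw [L6.Dbl.Phi, L6.bprod_map]
    exact L6.bprod_commute hPb m
  have hs := L6.not_split M.good M.perf
  rw [← M.hz]
  rcases Bool.or_eq_true_iff.1 hs with h | h
  · have := hPhi L6.h1m
    rwa [L6.Phi_rel M.good L6.imgm_h.2.1, h, if_pos rfl] at this
  · have := hPhi L6.h2m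
    rwa [L6.Phi_rel M.good L6.imgm_h.2.2, h, if_pos rfl] at this

/-- The two factors are determined. -/
theorem pair_eq {u v u' v' : G} (hu : u ∈ conjugatesOf d) (hv : v ∈ conjugatesOf d)
    (hu' : u' ∈ conjugatesOf d) (hv' : v' ∈ conjugatesOf d) (hne : u ≠ v) (cuv : Commute u v)
    (cuv' : Commute u' v') (e : u * v = u' * v') : u' = u ∨ u' = v := by
  have hcu : Commute u' u := by
    obtain ⟨c, hc, h0, rfl⟩ := L.exists_mem' hu hv cuv.symm hne.symm
    obtain ⟨k, hk, ek⟩ := (L.at' hu).exists_conj_five hc h0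
    have hku : k⁻¹ * u * k = u := by rw [mul_assoc, ← (mem_cent.1 hk).eq, inv_mul_cancel_left]
    have h := L.no_second hu (conj_mem hu' k⁻¹) (conj_mem hv' k⁻¹) (by
        simpa using cuv'.map (MulAut.conj k⁻¹))
      (show u * (L.at' hu).mem 5 = _ by
        rw [show k⁻¹ * u' * k⁻¹⁻¹ * (k⁻¹ * v' * k⁻¹⁻¹) = k⁻¹ * (u' * v') * k by group, ← e, ← ek,
          show k⁻¹ * (u * (k * (L.at' hu).mem 5 * k⁻¹)) * k = k⁻¹ * u * k * (L.at' hu).mem 5 by group,
          hku])
    have := h.map (MulAut.conj k)
    simpa [mul_assoc, (mem_cent.1 hk).eq, ← (mem_cent.1 hk).inv_left.eq] using this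
  by_contra hcon
  push Not at hcon
  have cv : Commute u' v := by
    have := hcu.mul_right (e ▸ (Commute.refl u').mul_right cuv' : Commute u' (u * v))
    rwa [← mul_assoc, L.sqD hu, one_mul] at this
  refine L.three_notMem hu' hu hv hcu cv cuv hcon.1 hcon.2 hne ?_
  rw [mul_assoc, e, ← mul_assoc, L.sqD hu', one_mul]
  exact hv'

end Loc

end Cfsg.Agent.Transpos.Recog22
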