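import Cfsg.Agent.Lib.Transpos.Recog22.S0Data

/-!
# Normal codes of points, transvections and members
-/

set_option autoImplicit false
set_option maxRecDepth 20000

namespace Cfsg.Agent.Transpos.Recog22

open Cfsg Cfsg.Agent.ClassicalSimple Cfsg.Agent.Transpos

theorem IsPtCode.iso {c : ℕ} (h : IsPtCode c) : L6.Iso c := (iso_iff c).2 h.2.2.1

theorem IsPtCode.ne {c : ℕ} (h : IsPtCode c) : L6.vec c ≠ 0 := (vec_ne_iff h.1).2 h.2.1

/-- The least code of an isotropic vector is a normal code. -/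
theorem isPt_nrm {c : ℕ} (hc : L6.Iso c) (h0 : L6.vec c ≠ 0) : IsPtCode (nrm c) := by
  obtain ⟨h1, h2⟩ := iso_nrm hc h0
  obtain ⟨s, hs, e⟩ := vec_nrm c
  exact ⟨nrm_lt c, (vec_ne_iff (nrm_lt c)).1 h2, (iso_iff _).1 h1, nrm_of_smul (nrm_lt c) hs e⟩

theorem tn_smul (c : ℕ) (hc : L6.Iso c) (x : L6.V) : L6.T1 c • x = L6.tn c x := L6.T1_smul hc x

/-- The image code under a transvection is isotropic and nonzero. -/
theorem iso_tnN {c x : ℕ} (hc : L6.Iso c) (hx : L6.Iso x) (h0 : L6.vec x ≠ 0) :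
    L6.Iso (tnN c x) ∧ L6.vec (tnN c x) ≠ 0 := by
  have e : L6.vec (tnN c x) = L6.T1 c • L6.vec x := by rw [L6.T1_smul hc, vec_tnN]
  refine ⟨?_, fun h => h0 ?_⟩
  · show hermForm 6 L6.K 2 _ _ = 0
    rw [e, ← Forms.hermB_apply L6.hK, U6.isom L6.cx]; exact hx.hb
  · rw [h] at e
    rw [← inv_smul_smul (L6.T1 c) (L6.vec x), ← e]
    exact ((L6.T1 c)⁻¹ : UH L6.hB).1.map_zero

theorem iso_wN {l : List ℕ} (hl : ∀ c ∈ l, L6.Iso c) {x : ℕ} (hx : L6.Iso x) (h0 : L6.vec x ≠ 0) :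
    L6.Iso (wN l x) ∧ L6.vec (wN l x) ≠ 0 := by
  induction l with
  | nil => exact ⟨hx, h0⟩
  | cons c l ih =>
    obtain ⟨h1, h2⟩ := ih fun a ha => hl a (List.mem_cons_of_mem _ ha)
    exact iso_tnN (hl c (List.mem_cons_self ..)) h1 h2

theorem T1_twice {c : ℕ} (hc : L6.Iso c) (x : L6.V) : L6.T1 c • L6.T1 c • x = x := by
  rw [← mul_smul, L6.T1_sq, one_smul]

/-- A transvection respects normal forms. -/
theorem nrm_tnN_congr {c x : ℕ} (hc : L6.Iso c) (hx : x < 4096) {s : L6.K} (hs : s ≠ 0) {z : ℕ}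
    (e : L6.vec x = s • L6.vec z) : nrm (tnN c x) = nrm (tnN c z) := by
  refine nrm_of_smul (tnN_lt c hx) hs ?_
  rw [vec_tnN, vec_tnN, ← L6.T1_smul hc, ← L6.T1_smul hc, e, L6.smul_smul']

theorem nrm_tnN_nrm {c x : ℕ} (hc : L6.Iso c) : nrm (tnN c (nrm x)) = nrm (tnN c x) := by
  obtain ⟨s, hs, e⟩ := vec_nrm x
  exact nrm_tnN_congr hc (nrm_lt x) hs e

/-- A transvection is an involution on normal codes. -/
theorem nrm_tnN_twice {c x : ℕ} (hc : L6.Iso c) (hx : IsPtCode x) :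
    nrm (tnN c (nrm (tnN c x))) = x := by
  rw [nrm_tnN_nrm hc]
  refine Eq.trans (congrArg nrm (vec_inj (tnN_lt c (tnN_lt c hx.1)) hx.1 ?_)) hx.2.2.2
  rw [vec_tnN, vec_tnN, ← L6.T1_smul hc, ← L6.T1_smul hc, T1_twice hc]

/-- Transvections preserve orthogonality. -/
theorem hn_tnN {c x z : ℕ} (hc : L6.Iso c) (h : hn x z = 0) :
    hn (nrm (tnN c x)) (nrm (tnN c z)) = 0 := by
  obtain ⟨s, -, es⟩ := vec_nrm (tnN c x)
  obtain ⟨t, -, et⟩ := vec_nrm (tnN c z)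
  rw [← herm_eq_zero_iff, ← Forms.hermB_apply L6.hK] at h ⊢
  rw [es, et, vec_tnN, vec_tnN, ← L6.T1_smul hc, ← L6.T1_smul hc]
  have h' := (U6.isom L6.cx (L6.T1 c) (L6.vec z) (L6.vec x)).trans h
  simp only [map_smulₛₗ, LinearMap.smul_apply, smul_eq_mul, RingHom.id_apply, h', mul_zero]

variable {G : Type*} [Group G] [Finite G]

namespace Loc

variable {b : G} (M : Loc b)

theorem mem_nrm {c : ℕ} (hc : L6.Iso c) (h0 : L6.vec c ≠ 0) : M.mem (nrm c) = M.mem c := by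
  obtain ⟨s, hs, e⟩ := vec_nrm c
  obtain ⟨h1, h2⟩ := iso_nrm hc h0
  exact M.mem_congr h1 h2 hc hs e

/-- A member moves normal codes by its transvection. -/
theorem mem_act {c x : ℕ} (hc : IsPtCode c) (hx : IsPtCode x) :
    M.mem c * M.mem x * M.mem c = M.mem (nrm (tnN c x)) := by
  obtain ⟨h1, h2⟩ := iso_tnN hc.iso hx.iso hx.ne
  rw [M.mem_nrm h1 h2]
  exact M.mem_conj_mem hc.iso hc.ne hx.iso hx.ne h1 one_ne_zero (by rw [one_smul, vec_tnN])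

/-- A lift of a product of transvections moves normal codes as it does. -/
theorem exists_lift {l : List ℕ} (hl : ∀ c ∈ l, L6.Iso c) :
    ∃ k ∈ Cent b, ∀ x, L6.Iso x → L6.vec x ≠ 0 → k * M.mem x * k⁻¹ = M.mem (nrm (wN l x)) := by
  obtain ⟨k, hk⟩ := M.Δ.surj (L6.mkQ (L6.W l))
  refine ⟨k, k.2, fun x hx h0 => ?_⟩
  obtain ⟨h1, h2⟩ := iso_wN hl hx h0
  rw [M.mem_nrm h1 h2]
  exact M.conj_mem_eq hk hx h0 h1 one_ne_zero (by rw [L6.W_smul hl, one_smul, vec_wN])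

end Loc

end Cfsg.Agent.Transpos.Recog22
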