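import Cfsg.Agent.Lib.Transpos.Recog22.S0Data

/-!
# The lines through the base point are covered
-/

set_option autoImplicit false
set_option maxRecDepth 200000
set_option synthInstance.maxSize 100000
set_option synthInstance.maxHeartbeats 1000000

namespace Cfsg.Agent.Transpos.Recog22

theorem sig_cover : ∀ v < 3, ∀ c < 4096, hn c c = 0 → hn c 5 = 0 → c = 0 ∨ nrm c = 5 ∨
    ∃ m < 4, (sigL v).contains (nrm (c ^^^ sn m 5)) = true := by decide +kernel

end Cfsg.Agent.Transpos.Recog22
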