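import Cfsg.Agent.Lib.Transpos.Recog22.S0Data

/-!
# Every point is in the set or orthogonal to one of it
-/

set_option autoImplicit false
set_option maxRecDepth 200000
set_option synthInstance.maxSize 100000
set_option synthInstance.maxHeartbeats 1000000

namespace Cfsg.Agent.Transpos.Recog22

theorem ext_diam : ∀ v < 3, ∀ c < 4096, hn c c = 0 → c = 0 ∨ (extL v).contains (nrm c) = true ∨
    ∃ s ∈ extL v, hn c s = 0 := by decide +kernel

end Cfsg.Agent.Transpos.Recog22
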