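import Cfsg.Agent.Lib.Transpos.U6Thompson
import Cfsg.Agent.Lib.Transpos.M22Quasi

/-!
# Recognition of type M(22) from a transposition centralizer: the local model

`Loc a`: the centralizer of the involution `a` is a perfect double cover of `PSU₆(2)` over `a`, and
`a` is no square.  `Loc.mem c` is the member of the class attached to the isotropic point coded `c`.
-/

set_option autoImplicit false
set_option maxRecDepth 20000

namespace Cfsg.Agent.Transpos.Recog22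

open Cfsg Cfsg.Agent.ClassicalSimple Cfsg.Agent.Transpos

variable {G : Type*} [Group G]

/-- The centralizer of an element. -/
abbrev Cent (a : G) : Subgroup G := Subgroup.centralizer ({a} : Set G)

theorem mem_cent {a k : G} : k ∈ Cent a ↔ Commute k a := Subgroup.mem_centralizer_singleton_iff

/-- The local model at an involution. -/
structure Loc (a : G) where
  sq : a * a = 1
  ne : a ≠ 1
  notsq : ∀ g : G, g * g ≠ a
  nwc : ∃ g : G, g * a * g⁻¹ ∈ Cent a ∧ g * a * g⁻¹ ≠ a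
  Δ : L6.Dbl ↥(Cent a)
  hz : (Δ.z : G) = a
  perf : commutator ↥(Cent a) = ⊤

theorem sq_of_conj {a y : G} (ha : a * a = 1) (h : y ∈ conjugatesOf a) : y * y = 1 := by
  obtain ⟨g, rfl⟩ := isConj_iff.1 h
  rw [show g * a * g⁻¹ * (g * a * g⁻¹) = g * (a * a) * g⁻¹ by group, ha]; group

theorem conj_mem {a y : G} (h : y ∈ conjugatesOf a) (g : G) : g * y * g⁻¹ ∈ conjugatesOf a :=
  IsConj.trans h (isConj_iff.2 ⟨g, rfl⟩)

theorem conj_sq {y : G} (hy : y * y = 1) (g : G) : g * y * g⁻¹ * (g * y * g⁻¹) = 1 := by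
  rw [show g * y * g⁻¹ * (g * y * g⁻¹) = g * (y * y) * g⁻¹ by group, hy]; group

/-- A vector has a code. -/
theorem exists_code (v : L6.V) : ∃ c < 4096, L6.vec c = v := by
  have key : ∀ a b c d e f : ℕ, a < 4 → b < 4 → c < 4 → d < 4 → e < 4 → f < 4 → ∀ j : Fin 6,
      ((a + 4 * b + 16 * c + 64 * d + 256 * e + 1024 * f) >>> (2 * (j : ℕ))) % 4
        = [a, b, c, d, e, f].getD j 0 := by
    intro a b c d e f _ _ _ _ _ _ j
    fin_cases j <;> simp [Nat.shiftRight_eq_div_pow] <;> omega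
  refine ⟨(v 0).v + 4 * (v 1).v + 16 * (v 2).v + 64 * (v 3).v + 256 * (v 4).v + 1024 * (v 5).v,
    ?_, funext fun j => ?_⟩
  · have := (v 0).v.isLt; have := (v 1).v.isLt; have := (v 2).v.isLt
    have := (v 3).v.isLt; have := (v 4).v.isLt; have := (v 5).v.isLt
    omega
  · have := key _ _ _ _ _ _ (v 0).v.isLt (v 1).v.isLt (v 2).v.isLt (v 3).v.isLt (v 4).v.isLt
      (v 5).v.isLt j
    show (⟨Fin.ofNat 4 _⟩ : L6.K) = v j
    suffices h : Fin.ofNat 4 _ = (v j).v from congrArg G2Four.K4.mk h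
    refine Fin.ext ?_
    rw [Fin.val_ofNat, this]
    fin_cases j <;> rfl

/-- The image of an isotropic code under an element of `SU₆(2)`. -/
theorem exists_image (k : L6.SG) {c : ℕ} (hc : L6.Iso c) (hc0 : L6.vec c ≠ 0) :
    ∃ c', L6.Iso c' ∧ L6.vec c' ≠ 0 ∧ L6.vec c' = k • L6.vec c := by
  obtain ⟨c', -, e⟩ := exists_code (k • L6.vec c)
  refine ⟨c', ?_, fun h => hc0 ?_, e⟩
  · show hermForm 6 L6.K 2 (L6.vec c') (L6.vec c') = 0
    rw [e, ← Forms.hermB_apply L6.hK, U6.isom L6.cx]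
    exact hc.hb
  · rw [h] at e
    rw [← inv_smul_smul k (L6.vec c), ← e]
    exact ((k⁻¹ : L6.SG) : UH L6.hB).1.map_zero

namespace Loc

variable {a : G} (L : Loc a)

/-- Transport along conjugation. -/
noncomputable def conj (g : G) : Loc (g * a * g⁻¹) where
  sq := conj_sq L.sq g
  ne := fun h => L.ne (by simpa [mul_assoc] using congrArg (fun t => g⁻¹ * t * g) h)
  notsq := fun k h => L.notsq (g⁻¹ * k * g) (by
    rw [show g⁻¹ * k * g * (g⁻¹ * k * g) = g⁻¹ * (k * k) * g by group, h]; group)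
  nwc := by
    obtain ⟨q, hq, hne⟩ := L.nwc
    refine ⟨g * q * g⁻¹, mem_cent.2 ?_, ?_⟩
    · have h := (mem_cent.1 hq).map (MulAut.conj g)
      simpa [mul_assoc] using h
    · intro h
      exact hne (by simpa [mul_assoc] using congrArg (fun t => g⁻¹ * t * g) h)
  Δ :=
    let ι : ↥(Cent (g * a * g⁻¹)) ≃* ↥(Cent a) :=
      { toFun := fun y => ⟨g⁻¹ * y * g, mem_cent.2 (by
          simpa [mul_assoc] using (mem_cent.1 y.2).map (MulAut.conj g⁻¹))⟩
        invFun := fun y => ⟨g * y * g⁻¹, mem_cent.2 (by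
          simpa [mul_assoc] using (mem_cent.1 y.2).map (MulAut.conj g))⟩
        left_inv := fun y => Subtype.ext (by simp [mul_assoc])
        right_inv := fun y => Subtype.ext (by simp [mul_assoc])
        map_mul' := fun y w => Subtype.ext (by simp [mul_assoc]) }
    { ψ := L.Δ.ψ.comp ι.toMonoidHom
      z := ι.symm L.Δ.z
      surj := L.Δ.surj.comp ι.surjective
      zz := by rw [← map_mul, L.Δ.zz, map_one]
      zc := fun y => by simpa using (L.Δ.zc (ι y)).map ι.symm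
      ker := fun y hy => (L.Δ.ker (ι y) hy).imp (fun h => ι.injective (h.trans (map_one ι).symm))
        (fun h => by rw [← h, MulEquiv.symm_apply_apply])
      z1 := fun h => L.Δ.z1 (by simpa using congrArg ι h)
      ψz := by simp [L.Δ.ψz] }
  hz := by simp [L.hz]
  perf := by
    let ι : ↥(Cent a) ≃* ↥(Cent (g * a * g⁻¹)) :=
      { toFun := fun y => ⟨g * y * g⁻¹, mem_cent.2 (by
          simpa [mul_assoc] using (mem_cent.1 y.2).map (MulAut.conj g))⟩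
        invFun := fun y => ⟨g⁻¹ * y * g, mem_cent.2 (by
          simpa [mul_assoc] using (mem_cent.1 y.2).map (MulAut.conj g⁻¹))⟩
        left_inv := fun y => Subtype.ext (by simp [mul_assoc])
        right_inv := fun y => Subtype.ext (by simp [mul_assoc])
        map_mul' := fun y w => Subtype.ext (by simp [mul_assoc]) }
    rw [← map_commutator_top ι, L.perf, Subgroup.map_top_of_surjective ι.toMonoidHom ι.surjective]

/-- The local model at a conjugate. -/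
noncomputable def at' {b : G} (hb : b ∈ conjugatesOf a) : Loc b :=
  (isConj_iff.1 hb).choose_spec ▸ L.conj (isConj_iff.1 hb).choose

variable [Finite G]

/-- The normalised lift. -/
noncomputable def x : ↥(Cent a) := L.Δ.exists_good.choose

theorem good : L6.Good L.Δ L.x :=
  ⟨L.Δ.exists_good.choose_spec.1, L.Δ.exists_good.choose_spec.2⟩

/-- The member at a point. -/
noncomputable def mem (c : ℕ) : G := a * (L.Δ.Pl L.x c : G)

theorem mem_eq (c : ℕ) : L.mem c = ((L.Δ.z * L.Δ.Pl L.x c : ↥(Cent a)) : G) := by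
  simp [mem, L.hz]

theorem commute_mem (c : ℕ) : Commute (L.mem c) a := by
  rw [mem_eq]; exact mem_cent.1 (SetLike.coe_mem _)

theorem ψ_mem {c : ℕ} (hc : L6.Iso c) (h0 : L6.vec c ≠ 0) :
    L.Δ.ψ ⟨L.mem c, mem_cent.2 (L.commute_mem c)⟩ = L6.mkQ (L6.T1 c) := by
  rw [show (⟨L.mem c, _⟩ : ↥(Cent a)) = L.Δ.z * L.Δ.Pl L.x c from Subtype.ext (L.mem_eq c),
    map_mul, L.Δ.ψz, one_mul, L.Δ.ψ_Pl L.good.lift hc h0]

theorem mem_sq {c : ℕ} (hc : L6.Iso c) (h0 : L6.vec c ≠ 0) : L.mem c * L.mem c = 1 := by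
  have h := L.Δ.sq_T1 hc h0 (L.Δ.ψ_Pl L.good.lift hc h0)
  rw [mem_eq, ← Subgroup.coe_mul, (L.Δ.zc _).symm.mul_mul_mul_comm, L.Δ.zz, h, one_mul,
    Subgroup.coe_one]

/-- Conjugation moves members as the projection moves points. -/
theorem conj_mem_eq {k : ↥(Cent a)} {s : L6.SG} (hk : L.Δ.ψ k = L6.mkQ s) {c c' : ℕ}
    (hc : L6.Iso c) (h0 : L6.vec c ≠ 0) (hc' : L6.Iso c') {m : L6.K} (hm : m ≠ 0)
    (e : s • L6.vec c = m • L6.vec c') : (k : G) * L.mem c * (k : G)⁻¹ = L.mem c' := by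
  rw [mem_eq, mem_eq, ← L.Δ.Pl_conj L.good.lift hc h0 hc' hk hm e]
  simp only [Subgroup.coe_mul, InvMemClass.coe_inv]
  have hzk : Commute (L.Δ.z : G) k := congrArg Subtype.val (L.Δ.zc k).eq
  calc (k : G) * ((L.Δ.z : G) * L.Δ.Pl L.x c) * (k : G)⁻¹
      = ((k : G) * L.Δ.z) * L.Δ.Pl L.x c * (k : G)⁻¹ := by group
    _ = (L.Δ.z : G) * ((k : G) * L.Δ.Pl L.x c * (k : G)⁻¹) := by rw [← hzk.eq]; group

theorem mem_congr {c c' : ℕ} (hc : L6.Iso c) (h0 : L6.vec c ≠ 0) (hc' : L6.Iso c') {m : L6.K}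
    (hm : m ≠ 0) (e : L6.vec c = m • L6.vec c') : L.mem c = L.mem c' := by
  simpa using L.conj_mem_eq (k := 1) (s := 1) (by simp) hc h0 hc' hm (by rw [one_smul]; exact e)

/-- Members determine points. -/
theorem mem_inj {c c' : ℕ} (hc : L6.Iso c) (h0 : L6.vec c ≠ 0) (hc' : L6.Iso c')
    (h0' : L6.vec c' ≠ 0) (e : L.mem c = L.mem c') :
    ∃ m : L6.K, m ≠ 0 ∧ L6.vec c' = m • L6.vec c := by
  have h : L6.mkQ (L6.T1 c) = L6.mkQ (L6.T1 c') := by
    rw [← L.ψ_mem hc h0, ← L.ψ_mem hc' h0']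
    exact congrArg L.Δ.ψ (Subtype.ext e)
  rw [← L6.pt_eq hc, ← L6.pt_eq hc'] at h
  obtain ⟨m, hm⟩ := U6.pt_eq_imp L6.cx hc.hb hc'.hb h0' h
  exact ⟨m, fun hm0 => h0' (by rw [hm, hm0, zero_smul]), hm⟩

theorem mem_ne_self {c : ℕ} (hc : L6.Iso c) (h0 : L6.vec c ≠ 0) : L.mem c ≠ a := by
  intro e
  have h := L.ψ_mem hc h0
  rw [show (⟨L.mem c, _⟩ : ↥(Cent a)) = L.Δ.z from Subtype.ext (e.trans L.hz.symm), L.Δ.ψz,
    ← L6.pt_eq hc] at h
  exact U6.pt_ne_one L6.cx hc.hb h0 h.symm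

theorem commute_mem_iff {c c' : ℕ} (hc : L6.Iso c) (h0 : L6.vec c ≠ 0) (hc' : L6.Iso c')
    (h0' : L6.vec c' ≠ 0) :
    Commute (L.mem c) (L.mem c') ↔ hermForm 6 L6.K 2 (L6.vec c') (L6.vec c) = 0 := by
  constructor
  · intro h
    have hq : Commute (L.Δ.ψ ⟨L.mem c, mem_cent.2 (L.commute_mem c)⟩)
        (L.Δ.ψ ⟨L.mem c', mem_cent.2 (L.commute_mem c')⟩) := Commute.map (Subtype.ext h.eq) _
    rw [L.ψ_mem hc h0, L.ψ_mem hc' h0', ← L6.pt_eq hc, ← L6.pt_eq hc',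
      U6.pt_commute_iff L6.cx hc.hb hc'.hb, Forms.hermB_apply] at hq
    exact hq
  · intro h
    exact congrArg Subtype.val
      (L.Δ.commute_orth hc hc' h0' h (L.ψ_mem hc h0) (L.ψ_mem hc' h0')).eq

/-- The image of a member under another. -/
theorem mem_conj_mem {c c' c'' : ℕ} (hc : L6.Iso c) (h0 : L6.vec c ≠ 0) (hc' : L6.Iso c')
    (h0' : L6.vec c' ≠ 0) (hc'' : L6.Iso c'') {m : L6.K} (hm : m ≠ 0)
    (e : L6.tn c (L6.vec c') = m • L6.vec c'') :
    L.mem c * L.mem c' * L.mem c = L.mem c'' := by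
  have h := L.conj_mem_eq (k := ⟨L.mem c, mem_cent.2 (L.commute_mem c)⟩) (L.ψ_mem hc h0) hc' h0'
    hc'' hm (by rw [L6.T1_smul hc]; exact e)
  rwa [inv_eq_of_mul_eq_one_right (L.mem_sq hc h0)] at h

/-- Noncommuting members braid. -/
theorem mem_braid {c c' : ℕ} (hc : L6.Iso c) (h0 : L6.vec c ≠ 0) (hc' : L6.Iso c')
    (h0' : L6.vec c' ≠ 0) (hn : ¬ Commute (L.mem c) (L.mem c')) :
    L.mem c * L.mem c' * L.mem c = L.mem c' * L.mem c * L.mem c' := by
  obtain ⟨r, hr, hr0, er⟩ := exists_image (L6.T1 c') hc h0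
  rw [L6.T1_smul hc'] at er
  rw [L.mem_conj_mem hc' h0' hc h0 hr one_ne_zero (by rw [one_smul]; exact er.symm)]
  set t := hermForm 6 L6.K 2 (L6.vec c) (L6.vec c') with ht
  have ht0 : t ≠ 0 := fun h => hn (((L.commute_mem_iff hc' h0' hc h0).2 h).symm)
  have hs : hermForm 6 L6.K 2 (L6.vec c') (L6.vec c) = Forms.qEnd L6.hK t := by
    rw [ht, ← Forms.hermB_apply L6.hK, ← Forms.hermB_apply L6.hK, L6.cx.form.swap]
  refine L.mem_conj_mem hc h0 hc' h0' hr (m := Forms.qEnd L6.hK t) (fun h => ?_) ?_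
  · exact ht0 (by simpa [h] using (L6.cx.form.invol t).symm)
  rw [er, L6.tn, L6.tn, hs, ← ht, smul_add, smul_smul, L6.cx.norm t ht0, one_smul, add_comm]

theorem mem_pow_three {c c' : ℕ} (hc : L6.Iso c) (h0 : L6.vec c ≠ 0) (hc' : L6.Iso c')
    (h0' : L6.vec c' ≠ 0) (hn : ¬ Commute (L.mem c) (L.mem c')) :
    (L.mem c * L.mem c') ^ 3 = 1 := by
  calc (L.mem c * L.mem c') ^ 3
      = L.mem c * L.mem c' * L.mem c * (L.mem c' * L.mem c * L.mem c') := by
        simp only [pow_succ, pow_zero, one_mul, mul_assoc]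
    _ = L.mem c * L.mem c' * L.mem c * (L.mem c * L.mem c' * L.mem c) := by
        rw [L.mem_braid hc h0 hc' h0' hn]
    _ = L.mem c * L.mem c' * (L.mem c * L.mem c) * L.mem c' * L.mem c := by group
    _ = L.mem c * (L.mem c' * L.mem c') * L.mem c := by rw [L.mem_sq hc h0, mul_one]; group
    _ = 1 := by rw [L.mem_sq hc' h0', mul_one, L.mem_sq hc h0]

/-- The plane subgroup inside `G`. -/
noncomputable def A : Subgroup G := (L6.A0 L.good).map (Cent a).subtype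

theorem A_le : L.A ≤ Cent a := by rintro _ ⟨y, -, rfl⟩; exact y.2

theorem A_comm {u v : G} (hu : u ∈ L.A) (hv : v ∈ L.A) : Commute u v := by
  obtain ⟨u', hu', rfl⟩ := hu
  obtain ⟨v', hv', rfl⟩ := hv
  exact congrArg Subtype.val ((L6.A0_el2 L.good).1 u' hu' v' hv').eq

theorem A_sq {u : G} (hu : u ∈ L.A) : u * u = 1 := by
  obtain ⟨u', hu', rfl⟩ := hu
  exact congrArg Subtype.val ((L6.A0_el2 L.good).2 u' hu')

theorem card_A : Nat.card L.A = 2 ^ 10 := by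
  rw [A, ← Nat.card_congr ((L6.A0 L.good).equivMapOfInjective _ (Cent a).subtype_injective).toEquiv,
    L6.card_A0]

theorem self_mem_A : a ∈ L.A :=
  ⟨L.Δ.z, ⟨512, by norm_num, L6.f10_z.symm⟩, L.hz⟩

/-- A conjugate of `A` inside the centralizer is conjugate there to `A`. -/
theorem exists_conj_A {B : Subgroup G} (hB : B ≤ Cent a) (hc : ∀ u ∈ B, ∀ v ∈ B, Commute u v)
    (hs : ∀ u ∈ B, u * u = 1) (hn : Nat.card B = 2 ^ 10) :
    ∃ k ∈ Cent a, ∀ u, u ∈ B ↔ k * u * k⁻¹ ∈ L.A := by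
  let B' := B.subgroupOf (Cent a)
  have hB' : L6.El2 B' := ⟨fun u hu v hv => Subtype.ext (hc _ hu _ hv).eq,
    fun u hu => Subtype.ext (hs _ hu)⟩
  obtain ⟨k, hk⟩ := (L6.elem_conj L.good hB').2
    (by rw [Nat.card_congr (Subgroup.subgroupOfEquivOfLe hB).toEquiv, hn])
  refine ⟨k, k.2, fun u => ⟨fun hu => ?_, fun ⟨w, hw, e⟩ => ?_⟩⟩
  · exact ⟨k * ⟨u, hB hu⟩ * k⁻¹, hk ▸ ⟨⟨u, hB hu⟩, hu, rfl⟩, by simp⟩
  · rw [← hk] at hw
    obtain ⟨w', hw', e'⟩ := hw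
    have : u = (w' : G) := by
      rw [← e'] at e
      have e2 : (k : G) * w' * (k : G)⁻¹ = k * u * (k : G)⁻¹ := by simpa using e
      exact (mul_left_cancel (mul_right_cancel e2)).symm
    rw [this]; exact hw'

/-- The members in `A` and their transport. -/
theorem members : (∀ c, L6.Iso c → L6.vec c ≠ 0 → L.mem c ∈ conjugatesOf a) ∧
    (∀ y ∈ conjugatesOf a, y ∈ L.A → y = a ∨ ∃ j < 21, y = L.mem (L6.P j)) ∧
    ∀ y ∈ conjugatesOf a, Commute y a → y ≠ a → ∃ c, L6.Iso c ∧ L6.vec c ≠ 0 ∧ y = L.mem c := by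
  classical
  let D : Set ↥(Cent a) := {y | (y : G) ∈ conjugatesOf a}
  have hzD : L.Δ.z ∈ D := by show (L.Δ.z : G) ∈ conjugatesOf a; rw [L.hz]; exact mem_conjugatesOf_self
  have hconj : ∀ k : ↥(Cent a), ∀ y ∈ D, k * y * k⁻¹ ∈ D := fun k y hy => by
    show ((k * y * k⁻¹ : ↥(Cent a)) : G) ∈ conjugatesOf a
    simpa using conj_mem hy (k : G)
  have hDsq : ∀ k : ↥(Cent a), k * k ∉ D := fun k hk => by
    obtain ⟨q, hq⟩ := isConj_iff.1 hk
    refine L.notsq (q⁻¹ * k * q) ?_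
    calc q⁻¹ * (k : G) * q * (q⁻¹ * k * q) = q⁻¹ * ((k * k : ↥(Cent a)) : G) * q := by
          simp [mul_assoc]
      _ = a := by rw [← hq]; group
  -- every conjugate in `A` is conjugate to `a` under the normaliser of `A`
  have htr : ∀ y ∈ L.A, y ∈ conjugatesOf a →
      ∃ n, n * a * n⁻¹ = y ∧ ∀ u, u ∈ L.A ↔ n * u * n⁻¹ ∈ L.A := by
    intro y hy hc
    obtain ⟨q, rfl⟩ := isConj_iff.1 hc
    have hm : ∀ {u}, u ∈ L.A.map (MulAut.conj q⁻¹).toMonoidHom ↔ q * u * q⁻¹ ∈ L.A := by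
      intro u
      refine ⟨?_, fun h => ⟨_, h, by simp [mul_assoc]⟩⟩
      rintro ⟨w, hw, rfl⟩
      simpa [mul_assoc] using hw
    obtain ⟨k, hk, hkA⟩ := L.exists_conj_A (B := L.A.map (MulAut.conj q⁻¹).toMonoidHom)
      (fun u hu => mem_cent.2 (by
        simpa [mul_assoc] using (L.A_comm (hm.1 hu) hy).map (MulAut.conj q⁻¹)))
      (fun u hu v hv => by
        simpa [mul_assoc] using (L.A_comm (hm.1 hu) (hm.1 hv)).map (MulAut.conj q⁻¹))
      (fun u hu => by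
        simpa [mul_assoc] using congrArg (MulAut.conj q⁻¹) (L.A_sq (hm.1 hu)))
      (by rw [← Nat.card_congr (L.A.equivMapOfInjective _ (MulAut.conj q⁻¹).injective).toEquiv,
        L.card_A])
    have hka : k⁻¹ * a * k = a := by rw [mul_assoc, ← (mem_cent.1 hk).eq, inv_mul_cancel_left]
    refine ⟨q * k⁻¹, ?_, fun u => ?_⟩
    · calc q * k⁻¹ * a * (q * k⁻¹)⁻¹ = q * (k⁻¹ * a * k) * q⁻¹ := by group
        _ = q * a * q⁻¹ := by rw [hka]
    · have := (hkA (k⁻¹ * u * k)).trans (Iff.of_eq (by rw [show k * (k⁻¹ * u * k) * k⁻¹ = u by group]))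
      rw [hm] at this
      rw [← this]
      simp [mul_assoc]
  have hreg : ∀ u ∈ D, u ∈ L6.A0 L.good → ∀ v ∈ D, v ∈ L6.A0 L.good →
      {w | w ∈ L6.A0 L.good ∧ w ∈ D ∧ w * u ∈ D}.ncard =
      {w | w ∈ L6.A0 L.good ∧ w ∈ D ∧ w * v ∈ D}.ncard := by
    suffices key : ∀ u ∈ D, u ∈ L6.A0 L.good → {w | w ∈ L6.A0 L.good ∧ w ∈ D ∧ w * u ∈ D}.ncard =
        {y | y ∈ L.A ∧ y ∈ conjugatesOf a ∧ y * a ∈ conjugatesOf a}.ncard by
      intro u h1 h2 v h3 h4; rw [key u h1 h2, key v h3 h4]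
    intro u huD huA
    obtain ⟨n, hna, hnA⟩ := htr u ⟨u, huA, rfl⟩ huD
    have hcl : ∀ y, (y ∈ conjugatesOf a ↔ n * y * n⁻¹ ∈ conjugatesOf a) := fun y =>
      ⟨fun h => conj_mem h n, fun h => by simpa [mul_assoc] using conj_mem h n⁻¹⟩
    rw [← Set.ncard_image_of_injective _ (Subtype.val_injective (p := (· ∈ Cent a))),
      ← Set.ncard_image_of_injective
        {y | y ∈ L.A ∧ y ∈ conjugatesOf a ∧ y * a ∈ conjugatesOf a} (MulAut.conj n).injective]
    congr 1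
    ext y
    constructor
    · rintro ⟨w, ⟨hwA, hwD, hwu⟩, rfl⟩
      refine ⟨n⁻¹ * w * n, ⟨(hnA _).2 (by
        rw [show n * (n⁻¹ * (w : G) * n) * n⁻¹ = w by group]
        exact ⟨w, hwA, rfl⟩),
        (hcl _).2 (by simpa [mul_assoc] using (show (w : G) ∈ conjugatesOf a from hwD)), (hcl _).2 ?_⟩, by simp [mul_assoc]⟩
      rw [show n * (n⁻¹ * w * n * a) * n⁻¹ = w * (n * a * n⁻¹) by group, hna]
      exact hwu
    · rintro ⟨w, ⟨hwA, hwD, hwu⟩, rfl⟩
      obtain ⟨w', hw', e⟩ := (hnA w).1 hwA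
      refine ⟨w', ⟨hw', ?_, ?_⟩, by simpa using e⟩
      · show (w' : G) ∈ conjugatesOf a
        rw [show (w' : G) = n * w * n⁻¹ from e]; exact (hcl w).1 hwD
      · show ((w' * u : ↥(Cent a)) : G) ∈ conjugatesOf a
        rw [Subgroup.coe_mul, show (w' : G) = n * w * n⁻¹ from e, ← hna,
          show n * w * n⁻¹ * (n * a * n⁻¹) = n * (w * a) * n⁻¹ by group]
        exact (hcl _).1 hwu
  have hex : ∃ y ∈ D, y ≠ L.Δ.z ∧ y * y = 1 := by
    obtain ⟨q, hqC, hqd⟩ := L.nwc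
    exact ⟨⟨_, hqC⟩, isConj_iff.2 ⟨q, rfl⟩, fun h => hqd ((congrArg Subtype.val h).trans L.hz),
      Subtype.ext (conj_sq L.sq q)⟩
  obtain ⟨h22, hPb⟩ := L6.ncard_class' L.good L.perf hzD hconj hDsq hreg hex
  have hPj : ∀ j, j < 21 → L.mem (L6.P j) ∈ conjugatesOf a := fun j hj => by
    rw [mem_eq]; exact hPb j hj
  have hPA : ∀ j, j < 21 → L.Δ.z * L.Δ.Pb L.x j ∈ L6.A0 L.good := fun j hj =>
    (L6.A0 L.good).mul_mem ⟨512, by norm_num, L6.f10_z.symm⟩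
      ((L6.mem_A0_iff L.good).2 (by
        refine ⟨L6.pc j, (L6.pc_ok j hj).1, ?_⟩
        rw [L.Δ.ψ_Pb L.good.lift hj, ← L6.R_pc hj]))
  have hall : {w | w ∈ L6.A0 L.good ∧ w ∈ D} =
      insert L.Δ.z ((fun j => L.Δ.z * L.Δ.Pb L.x j) '' Set.Iio 21) := by
    refine (Set.eq_of_subset_of_ncard_le ?_ ?_ (Set.toFinite _)).symm
    · rintro w (rfl | ⟨j, hj, rfl⟩)
      exacts [⟨⟨512, by norm_num, L6.f10_z.symm⟩, hzD⟩, ⟨hPA j hj, hPb j hj⟩]
    · rw [h22, Set.ncard_insert_of_notMem, Set.InjOn.ncard_image, Set.ncard_Iio_nat]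
      · intro i hi j hj e
        obtain ⟨m, hm, e'⟩ := L.mem_inj (L6.iso_P hi) (L6.iso_all.1 i hi).2 (L6.iso_P hj)
          (L6.iso_all.1 j hj).2 (by rw [mem_eq, mem_eq]; exact congrArg Subtype.val e)
        by_contra hne
        exact L6.pts_indep j hj i hi (Ne.symm hne) m e'
      · rintro ⟨j, hj, e⟩
        exact L.mem_ne_self (L6.iso_P hj) (L6.iso_all.1 j hj).2
          (((L.mem_eq _).trans (congrArg Subtype.val e)).trans L.hz)
  have hAD : ∀ y ∈ conjugatesOf a, y ∈ L.A → y = a ∨ ∃ j < 21, y = L.mem (L6.P j) := by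
    rintro y hy ⟨w, hw, rfl⟩
    have : w ∈ {w | w ∈ L6.A0 L.good ∧ w ∈ D} := ⟨hw, hy⟩
    rw [hall] at this
    rcases this with rfl | ⟨j, hj, rfl⟩
    · exact Or.inl L.hz
    · exact Or.inr ⟨j, hj, (L.mem_eq _).symm⟩
  refine ⟨fun c hc h0 => ?_, hAD, fun y hy hya hne => ?_⟩
  · obtain ⟨k, hk⟩ := U6.pt_exists_conj L6.cx L6.P0_iso.1.hb hc.hb L6.P0_iso.2 h0
    rw [L6.pt_eq L6.P0_iso.1, L6.pt_eq hc] at hk
    obtain ⟨k', rfl⟩ := L.Δ.surj k
    have e : (k' : G) * L.mem 5 * (k' : G)⁻¹ = L.mem c := by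
      rw [mem_eq, mem_eq, L.Δ.Pl_eq L.good.lift hk, L.Δ.Pl_five L.good.lift]
      simp only [Subgroup.coe_mul, InvMemClass.coe_inv]
      have hzk : Commute (L.Δ.z : G) k' := congrArg Subtype.val (L.Δ.zc k').eq
      calc (k' : G) * (L.Δ.z * L.x) * (k' : G)⁻¹ = (k' * L.Δ.z) * L.x * (k' : G)⁻¹ := by group
        _ = (L.Δ.z : G) * (k' * L.x * (k' : G)⁻¹) := by rw [← hzk.eq]; group
    rw [← e]
    exact conj_mem (hPj 0 (by norm_num)) _
  · obtain ⟨k, hk⟩ := L6.exists_conj_mem L.good (y := ⟨y, mem_cent.2 hya⟩)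
      (Subtype.ext (sq_of_conj L.sq hy))
    rcases hAD _ (by simpa using conj_mem hy (k : G)) ⟨_, hk, by simp⟩ with e | ⟨j, hj, e⟩
    · refine absurd ?_ hne
      calc y = (k : G)⁻¹ * (k * y * (k : G)⁻¹) * k := by group
        _ = a := by rw [e, mul_assoc, ← (mem_cent.1 k.2).eq, inv_mul_cancel_left]
    · obtain ⟨s, hs⟩ := QuotientGroup.mk_surjective (L.Δ.ψ k⁻¹)
      obtain ⟨c, hc, h0, ec⟩ := exists_image s (L6.iso_P hj) (L6.iso_all.1 j hj).2
      refine ⟨c, hc, h0, ?_⟩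
      rw [← L.conj_mem_eq (k := k⁻¹) (s := s) hs.symm (L6.iso_P hj) (L6.iso_all.1 j hj).2 hc
        one_ne_zero (by rw [one_smul, ec]), ← e]
      simp [mul_assoc]

theorem mem_mem {c : ℕ} (hc : L6.Iso c) (h0 : L6.vec c ≠ 0) : L.mem c ∈ conjugatesOf a :=
  L.members.1 c hc h0

theorem exists_mem {y : G} (hy : y ∈ conjugatesOf a) (hya : Commute y a) (hne : y ≠ a) :
    ∃ c, L6.Iso c ∧ L6.vec c ≠ 0 ∧ y = L.mem c :=
  L.members.2.2 y hy hya hne

end Loc

end Cfsg.Agent.Transpos.Recog22
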