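import Cfsg.Agent.Lib.Transpos.Recog22.Config
import Cfsg.Agent.Lib.Transpos.Recog22.Points
import Cfsg.Agent.Lib.Transpos.Recog22.S0Cover
import Cfsg.Agent.Lib.Transpos.Recog22.S0Diam

/-!
# The members commuting with two members at distance two

For `b` and `y` not commuting but both commuting with a third member, the points of `b` whose members
commute with `y` form, up to an element centralizing `b`, one of the three sets `extL v`.
-/

set_option autoImplicit false
set_option maxRecDepth 20000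
set_option synthInstance.maxSize 100000
set_option synthInstance.maxHeartbeats 1000000

namespace Cfsg.Agent.Transpos.Recog22

open Cfsg Cfsg.Agent.ClassicalSimple Cfsg.Agent.Transpos

variable {G : Type*} [Group G] [Finite G] {d : G}

theorem five_pt : IsPtCode 5 := by decide +kernel

theorem quad_line : (∀ t < 2, ∀ j ∈ quad t, (L6.Iso (L6.P j)) ∧
      ∃ m < 4, nrm (L6.P j) = nrm (target t ^^^ sn m 5)) ∧
    (∀ t < 2, ∀ m < 4, ∃ j ∈ quad t, nrm (L6.P j) = nrm (target t ^^^ sn m 5)) ∧
    (∀ t < 4, ∀ m < 4, IsPtCode (nrm (target t ^^^ sn m 5)) ∧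
      ∀ m' < 4, nrm (target t ^^^ sn m 5) = nrm (target t ^^^ sn m' 5) → m = m') ∧
    (∀ v < 3, (∀ a < 8, 4 ≤ a → a < 7 → (hexL v).getD (a - 2) 0 < 21 ∧
        nrm (L6.P ((hexL v).getD (a - 2) 0)) = tbl genT v a) ∧ (hexL v).length = 5) := by
  decide +kernel

/-- A normal code whose member commutes with `y`. -/
def InS {b : G} (M : Loc b) (y : G) (c : ℕ) : Prop := IsPtCode c ∧ Commute y (M.mem c)

theorem InS.act {b : G} {M : Loc b} {y : G} {c x : ℕ} (hc : InS M y c) (hx : InS M y x) :
    InS M y (nrm (tnN c x)) := by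
  obtain ⟨h1, h2⟩ := iso_tnN hc.1.iso hx.1.iso hx.1.ne
  refine ⟨isPt_nrm h1 h2, ?_⟩
  rw [← M.mem_act hc.1 hx.1]
  exact (hc.2.mul_right hx.2).mul_right hc.2

namespace Loc

variable (L : Loc d)
include L

theorem line_one_low {b y : G} (hb : b ∈ conjugatesOf d) (hy : y ∈ conjugatesOf d)
    (hya : Commute y ((L.at' hb).mem 5)) (hyb : ¬ Commute y b) {t : ℕ} (ht : t < 2) :
    ∃ m < 4, InS (L.at' hb) y (nrm (target t ^^^ sn m 5)) ∧
      ∀ m' < 4, InS (L.at' hb) y (nrm (target t ^^^ sn m' 5)) → m' = m := by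
  classical
  set B := L.at' hb
  obtain ⟨q1, q2, q3, -⟩ := quad_line
  obtain ⟨hcount, -⟩ := L.trace_hex hb hy hya hyb
  have h := hcount t (by omega)
  rw [List.countP_eq_length_filter, List.length_eq_one_iff] at h
  obtain ⟨j, hj⟩ := h
  have hmem : ∀ i, i = j ↔ i ∈ quad t ∧ i ∈ L.trace hb y := fun i => by
    rw [← List.mem_singleton, ← hj, List.mem_filter, List.contains_iff_mem]
  obtain ⟨hjq, hjt⟩ := (hmem j).1 rfl
  obtain ⟨⟨j1, j21⟩, hc⟩ := (L.mem_trace hb y).1 hjt
  obtain ⟨hji, m, hm, em⟩ := q1 t ht j hjq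
  refine ⟨m, hm, ⟨(q3 t (by omega) m hm).1, ?_⟩, fun m' hm' hS => ?_⟩
  · rw [← em, B.mem_nrm hji (L6.iso_all.1 j j21).2]; exact hc
  · obtain ⟨i, hi, ei⟩ := q2 t ht m' hm'
    obtain ⟨i1, i21, -⟩ := quad_spec t (by omega) i hi
    have : i = j := (hmem i).2 ⟨hi, (L.mem_trace hb y).2 ⟨⟨i1, i21⟩, by
      rw [← B.mem_nrm (L6.iso_P i21) (L6.iso_all.1 i i21).2, ei]; exact hS.2⟩⟩
    subst this
    exact (q3 t (by omega) m' hm').2 m hm (ei.symm.trans em)

/-- Exactly one point on each of four lines through the base point. -/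
theorem line_one {b y : G} (hb : b ∈ conjugatesOf d) (hy : y ∈ conjugatesOf d)
    (hya : Commute y ((L.at' hb).mem 5)) (hyb : ¬ Commute y b) {t : ℕ} (ht : t < 4) :
    ∃ m < 4, InS (L.at' hb) y (nrm (target t ^^^ sn m 5)) ∧
      ∀ m' < 4, InS (L.at' hb) y (nrm (target t ^^^ sn m' 5)) → m' = m := by
  rcases Nat.lt_or_ge t 2 with h | h
  · exact L.line_one_low hb hy hya hyb h
  set B := L.at' hb with hB
  obtain ⟨-, -, q3, -⟩ := quad_line
  obtain ⟨c, hc, hc5, hsw⟩ : ∃ c, L6.Iso c ∧ tnN c 5 = 5 ∧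
      ∀ m < 4, nrm (tnN c (nrm (target (t - 2) ^^^ sn m 5))) = nrm (target t ^^^ sn m 5) := by
    obtain ⟨⟨a1, a2, a3, a4⟩, hs⟩ := swap_ok
    rcases (show t = 2 ∨ t = 3 by omega) with rfl | rfl
    · exact ⟨176, (iso_iff _).2 a1, a2, fun m hm => (hs m hm).1⟩
    · exact ⟨2816, (iso_iff _).2 a3, a4, fun m hm => (hs m hm).2⟩
  obtain ⟨k, hk, hkx⟩ := B.exists_lift (l := [c]) (by simpa using hc)
  have hw : ∀ x, wN [c] x = tnN c x := fun x => rfl
  have hk5 : k * B.mem 5 * k⁻¹ = B.mem 5 := by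
    rw [hkx 5 five_pt.iso five_pt.ne, hw, hc5, five_pt.2.2.2]
  have hkb : k * b * k⁻¹ = b := by rw [(mem_cent.1 hk).eq, mul_inv_cancel_right]
  have hiff : ∀ z, (Commute (k⁻¹ * y * k) z ↔ Commute y (k * z * k⁻¹)) := fun z =>
    ⟨fun h => by simpa [mul_assoc] using conj_commute h k, fun h => by
      simpa [mul_assoc] using conj_commute h k⁻¹⟩
  have hS : ∀ m < 4, (InS B (k⁻¹ * y * k) (nrm (target (t - 2) ^^^ sn m 5)) ↔
      InS B y (nrm (target t ^^^ sn m 5))) := fun m hm => by
    have hp := (q3 (t - 2) (by omega) m hm).1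
    have e := hkx _ hp.iso hp.ne
    rw [hw, hsw m hm] at e
    exact ⟨fun h => ⟨(q3 t ht m hm).1, e ▸ (hiff _).1 h.2⟩, fun h => ⟨hp, (hiff _).2 (e ▸ h.2)⟩⟩
  obtain ⟨m, hm, h1, h2⟩ := L.line_one_low hb (y := k⁻¹ * y * k) (by simpa using conj_mem hy k⁻¹)
    ((hiff _).2 (by rwa [hk5])) (fun h' => hyb (hkb ▸ (hiff _).1 h')) (show t - 2 < 2 by omega)
  exact ⟨m, hm, (hS m hm).1 h1, fun m' hm' h' => h2 m' hm' ((hS m' hm').2 h')⟩

/-- A conjugate commuting with the four targets. -/
theorem exists_normalized {b y : G} (hb : b ∈ conjugatesOf d) (hy : y ∈ conjugatesOf d)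
    (hya : Commute y ((L.at' hb).mem 5)) (hyb : ¬ Commute y b) (n : ℕ) (hn : n ≤ 4) :
    ∃ k ∈ Cent b, k * (L.at' hb).mem 5 * k⁻¹ = (L.at' hb).mem 5 ∧
      ∀ t < n, InS (L.at' hb) (k * y * k⁻¹) (nrm (target t)) := by
  induction n with
  | zero => exact ⟨1, one_mem _, by simp, fun t ht => absurd ht (by omega)⟩
  | succ n ih =>
    set B := L.at' hb with hB
    obtain ⟨k, hk, hk5, hkt⟩ := ih (by omega)
    have hkb : k * b * k⁻¹ = b := by rw [(mem_cent.1 hk).eq, mul_inv_cancel_right]
    have hya' : Commute (k * y * k⁻¹) (B.mem 5) := hk5 ▸ conj_commute hya k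
    have hyb' : ¬ Commute (k * y * k⁻¹) b := fun h => hyb (by
      have := conj_commute (hkb.symm ▸ h : Commute (k * y * k⁻¹) (k * b * k⁻¹)) k⁻¹
      simpa [mul_assoc] using this)
    obtain ⟨m, hm, hS, -⟩ := L.line_one hb (conj_mem hy k) hya' hyb' (show n < 4 by omega)
    obtain ⟨-, -, q3, -⟩ := quad_line
    by_cases hm0 : m = 0
    · refine ⟨k, hk, hk5, fun t ht => ?_⟩
      rcases Nat.lt_succ_iff_lt_or_eq.1 ht with ht | rfl
      · exact hkt t ht
      · have e : target t ^^^ sn m 5 = target t := by subst hm0; exact Nat.xor_zero _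
        rwa [e] at hS
    obtain ⟨hiso, h5, hto, hfix⟩ := trans_ok n (by omega) m hm (by omega)
    obtain ⟨g, hg, hgx⟩ := B.exists_lift (l := transT n m) fun c hc => (iso_iff c).2 (hiso c hc).1
    have htgt : ∀ t < 4, IsPtCode (nrm (target t)) := fun t ht => by
      have := (q3 t ht 0 (by norm_num)).1
      rwa [show target t ^^^ sn 0 5 = target t from Nat.xor_zero _] at this
    refine ⟨g * k, mul_mem hg hk, ?_, fun t ht => ?_⟩
    · rw [show g * k * B.mem 5 * (g * k)⁻¹ = g * (k * B.mem 5 * k⁻¹) * g⁻¹ by group, hk5,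
        hgx 5 five_pt.iso five_pt.ne, h5, five_pt.2.2.2]
    · rw [show g * k * y * (g * k)⁻¹ = g * (k * y * k⁻¹) * g⁻¹ by group]
      refine ⟨htgt t (by omega), ?_⟩
      rcases Nat.lt_succ_iff_lt_or_eq.1 ht with ht | rfl
      · have := conj_commute (hkt t ht).2 g
        rwa [hgx _ (htgt t (by omega)).iso (htgt t (by omega)).ne, hfix t (by omega) (by omega)] at this
      · have := conj_commute hS.2 g
        rwa [hgx _ hS.1.iso hS.1.ne, hto] at this

/-- The trace of a normalized member. -/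
theorem trace_eq {b y : G} (hb : b ∈ conjugatesOf d) (hy : y ∈ conjugatesOf d)
    (hya : Commute y ((L.at' hb).mem 5)) (hyb : ¬ Commute y b)
    (hN : ∀ t < 4, InS (L.at' hb) y (nrm (target t))) :
    ∃ v < 3, ∀ c, InS (L.at' hb) y c ↔ c ∈ extL v := by
  classical
  set B := L.at' hb with hB
  obtain ⟨-, hhex⟩ := L.trace_hex hb hy hya hyb
  obtain ⟨q1, q2, q3, q4⟩ := quad_line
  have htP : ∀ t < 2, Commute y (B.mem (L6.P (t + 1))) := fun t ht => by
    have hp := L6.iso_P (j := t + 1) (by omega)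
    rw [← B.mem_nrm hp (L6.iso_all.1 (t + 1) (by omega)).2]
    have : nrm (L6.P (t + 1)) = nrm (target t) := by
      rcases (show t = 0 ∨ t = 1 by omega) with rfl | rfl <;> rfl
    rw [this]; exact (hN t (by omega)).2
  have hv := hhex (htP 0 (by norm_num)) (htP 1 (by norm_num))
  set v := vr (L6.eps B.Δ B.x L6.h1m) (L6.eps B.Δ B.x L6.h2m) with hvdef
  have v3 : v < 3 := vr_lt _ _
  refine ⟨v, v3, ?_⟩
  obtain ⟨hv0, hv1, hv2, hv3, hv7⟩ := gen_head v v3
  have hgen7 : ∀ a < 7, InS B y (tbl genT v a) := by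
    intro a ha
    rcases Nat.lt_or_ge a 4 with h | h
    · have e : tbl genT v a = nrm (target a) := by
        interval_cases a
        exacts [hv0, hv1, hv2, hv3]
      rw [e]; exact hN a h
    · obtain ⟨h21, e⟩ := (q4 v v3).1 a (by omega) h ha
      refine ⟨(gen_ok v v3 a (by omega)).1, ?_⟩
      rw [← e, B.mem_nrm (L6.iso_P h21) (L6.iso_all.1 _ h21).2]
      refine ((L.mem_trace hb y).1 ?_).2
      rw [hv]
      have hlen := (q4 v v3).2
      rw [List.getD_eq_getElem _ _ (show a - 2 < (hexL v).length by omega)]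
      exact List.getElem_mem _
  obtain ⟨s0, slen, stree⟩ := sig_tree v v3
  have hsig : ∀ i < 45, InS B y (tbl sigT v i) := by
    intro i
    induction i using Nat.strong_induction_on with
    | _ i ih =>
      intro hi
      by_cases h0 : i = 0
      · subst h0; rw [s0, show 80 = tbl genT v 0 from hv0 ▸ rfl]; exact hgen7 0 (by norm_num)
      obtain ⟨h1, h2, e⟩ := stree i hi (by omega)
      rw [← e]
      exact (hgen7 _ h1).act (ih _ h2 (by omega))
  -- at most one on each line through the base point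
  have hQ : ∀ i < 45, ∀ c, InS B y c → ∀ m < 4,
      c = nrm (tbl sigT v i ^^^ sn m 5) → c = tbl sigT v i := by
    intro i
    induction i using Nat.strong_induction_on with
    | _ i ih =>
      intro hi c hc m hm ec
      by_cases h0 : i = 0
      · subst h0
        rw [s0] at ec ⊢
        obtain ⟨m0, -, -, huniq⟩ := L.line_one hb hy hya hyb (t := 0) (by norm_num)
        have h1 := huniq m hm (show InS B y (nrm (80 ^^^ sn m 5)) from ec ▸ hc)
        have h2 := huniq 0 (by norm_num) (show InS B y (nrm (80 ^^^ sn 0 5)) from by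
          rw [show 80 ^^^ sn 0 5 = 80 from Nat.xor_zero _]
          exact hN 0 (by norm_num))
        obtain rfl : m = 0 := h1.trans h2.symm
        rw [ec]; rfl
      obtain ⟨h1, h2, e⟩ := stree i hi (by omega)
      set g := tbl genT v (tbl sigG v i)
      set p := tbl sigT v (tbl sigP v i)
      have hgp := hgen7 _ h1
      have hp := (sig_ok v v3 _ (show tbl sigP v i < 45 by omega)).1
      have hsi := (sig_ok v v3 i hi).1
      have hg5 : hn 5 g = 0 := by
        have := (gen_ok v v3 _ (show tbl sigG v i < 8 by omega)).2 h1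
        rw [← herm_eq_zero_iff, ← Forms.hermB_apply L6.hK] at this ⊢
        exact L6.cx.form.comm_zero this
      -- the image is on the parent's line
      obtain ⟨s, hs, es⟩ := vec_nrm (tnN g (tbl sigT v i))
      rw [show nrm (tnN g (tbl sigT v i)) = p by rw [← e, nrm_tnN_twice hgp.1.iso hp], vec_tnN] at es
      have himg : ∃ m' < 4, nrm (tnN g c) = nrm (p ^^^ sn m' 5) := by
        obtain ⟨r, hr, er⟩ := vec_nrm (tbl sigT v i ^^^ sn m 5)
        obtain ⟨m', hm', em', -⟩ := el_surj (s * L6.el m)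
        refine ⟨m', hm', nrm_of_smul (tnN_lt g hc.1.1) (mul_ne_zero hr (inv_ne_zero hs)) ?_⟩
        have h5 : L6.tn g (L6.vec 5) = L6.vec 5 := by
          rw [L6.tn, herm_vec, hg5, show L6.el 0 = (0 : L6.K) from rfl, zero_smul, add_zero]
        rw [vec_tnN, ec, er, vec_xor, vec_sn hm, ← L6.T1_smul hgp.1.iso, L6.smul_smul', L6.smul_add',
          L6.smul_smul', L6.T1_smul hgp.1.iso, L6.T1_smul hgp.1.iso, h5, vec_xor, vec_sn hm', ← em', es,
          smul_add, smul_add, smul_smul, smul_smul, smul_smul]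
        congr 1
        · rw [mul_assoc, inv_mul_cancel₀ hs, mul_one]
        · rw [← mul_assoc (r * s⁻¹), mul_assoc r, inv_mul_cancel₀ hs, mul_one]
      obtain ⟨m', hm', em'⟩ := himg
      have hc' := hgp.act hc
      have := ih _ h2 (by omega) _ hc' m' hm' em'
      rw [← e, show p = nrm (tnN g c) from this.symm, nrm_tnN_twice hgp.1.iso hc.1]
  have hexact : ∀ c, InS B y c → hn c 5 = 0 → c = 5 ∨ ∃ i < 45, c = tbl sigT v i := by
    intro c hc hc5
    rcases sig_cover v v3 c hc.1.1 hc.1.2.2.1 hc5 with h | h | ⟨m, hm, h⟩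
    · exact absurd h hc.1.2.1
    · exact Or.inl (hc.1.2.2.2 ▸ h)
    · rw [List.contains_iff_mem] at h
      obtain ⟨i, hi, e⟩ := List.getElem_of_mem h
      rw [slen] at hi
      refine Or.inr ⟨i, hi, ?_⟩
      have e' : nrm (c ^^^ sn m 5) = tbl sigT v i := by
        rw [← e]; exact (List.getD_eq_getElem _ _ _).symm
      obtain ⟨s, hs, es⟩ := vec_nrm (c ^^^ sn m 5)
      rw [e', vec_xor, vec_sn hm] at es
      obtain ⟨m', hm', em', -⟩ := el_surj (s * L6.el m)
      refine hQ i hi c hc m' hm' ?_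
      conv_lhs => rw [← hc.1.2.2.2]
      refine nrm_of_smul hc.1.1 (inv_ne_zero hs) ?_
      rw [vec_xor, vec_sn hm', ← em', es, mul_smul, ← smul_add, inv_smul_smul₀ hs, add_assoc,
        L6.cx.addV, add_zero]
  -- the point off the perp
  have h5S : InS B y 5 := ⟨five_pt, hya⟩
  have h14 : InS B y (tbl genT v 7) := by
    obtain ⟨hti, ht5, htm⟩ := turn_ok
    obtain ⟨k, hk, hkx⟩ := B.exists_lift (l := turnL) fun c hc => (iso_iff c).2 (hti c hc).1
    have hkb : k * b * k⁻¹ = b := by rw [(mem_cent.1 hk).eq, mul_inv_cancel_right]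
    have hiff : ∀ z, (Commute (k⁻¹ * y * k) z ↔ Commute y (k * z * k⁻¹)) := fun z =>
      ⟨fun h => by simpa [mul_assoc] using conj_commute h k, fun h => by
        simpa [mul_assoc] using conj_commute h k⁻¹⟩
    have h80 : Commute y (B.mem 80) := htP 0 (by norm_num)
    have e80 : k * B.mem 5 * k⁻¹ = B.mem 80 := by
      rw [hkx 5 five_pt.iso five_pt.ne, ht5]
      exact B.mem_nrm (L6.iso_P (j := 1) (by norm_num)) (L6.iso_all.1 1 (by norm_num)).2
    obtain ⟨m, hm, hS, -⟩ := L.line_one hb (y := k⁻¹ * y * k) (by simpa using conj_mem hy k⁻¹)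
      ((hiff _).2 (e80 ▸ h80)) (fun h => hyb (hkb ▸ (hiff _).1 h)) (t := 0) (by norm_num)
    have hp := hS.1
    have e := hkx _ hp.iso hp.ne
    rw [show target 0 = 80 from rfl, htm m hm] at e
    have hS' : InS B y (nrm (14 ^^^ sn m 80)) := by
      obtain ⟨h1, h2⟩ := iso_wN (fun c hc => (iso_iff c).2 (hti c hc).1) hp.iso hp.ne
      have := isPt_nrm h1 h2
      rw [show target 0 = 80 from rfl, htm m hm] at this
      exact ⟨this, e ▸ (hiff _).1 hS.2⟩
    by_cases hm0 : m = 0
    · subst hm0; rw [hv7]; exact hS'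
    exfalso
    obtain ⟨hchain, hlen, hperp, hne, hnot⟩ := bad_ok v v3 m hm (by omega)
    have key : ∀ n : ℕ, ∀ st known : List ℕ, st.length ≤ n → chainOK known st = true →
        (∀ c ∈ known, InS B y c) → ∀ j, 3 * j + 2 < st.length → InS B y (st.getD (3 * j) 0) := by
      intro n
      induction n with
      | zero => intro st known hl _ _ j hj; omega
      | succ n ih =>
        intro st known hl hok hkn j hj
        match st, hl, hok, hj with
        | a :: c :: x :: rest, hl, hok, hj =>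
          simp only [chainOK, Bool.and_eq_true, List.contains_iff_mem, beq_iff_eq] at hok
          obtain ⟨⟨⟨hc, hx⟩, ha⟩, hrest⟩ := hok
          have haS : InS B y a := ha ▸ (hkn c hc).act (hkn x hx)
          cases j with
          | zero => exact haS
          | succ j =>
            have := ih rest (a :: known) (by simp at hl; omega) hrest (fun z hz => by
              rcases List.mem_cons.1 hz with rfl | hz
              exacts [haS, hkn z hz]) j (by simp at hj; omega)
            simpa [Nat.mul_succ] using this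
    have hlast := key _ _ _ le_rfl hchain (fun c hc => by
      rcases List.mem_append.1 hc with h | h
      · obtain ⟨i, hi, e⟩ := List.getElem_of_mem h
        rw [← e]
        have := hsig i (slen ▸ hi)
        exact (List.getD_eq_getElem (sigL v) 0 hi) ▸ this
      · simp only [List.mem_cons, List.not_mem_nil, or_false] at h
        rcases h with rfl | rfl
        exacts [h5S, hS']) 3 (by rw [hlen]; norm_num)
    rcases hexact _ hlast hperp with h | ⟨i, hi, h⟩
    · exact hne h
    · refine Bool.false_ne_true (hnot.symm.trans (List.contains_iff_mem.2 ?_))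
      rw [h, show tbl sigT v i = (sigL v).getD i 0 from rfl,
        List.getD_eq_getElem _ _ (show i < (sigL v).length by omega)]
      exact List.getElem_mem _
  have hgen : ∀ a < 8, InS B y (tbl genT v a) := fun a ha => by
    rcases Nat.lt_or_ge a 7 with h | h
    exacts [hgen7 a h, (show a = 7 by omega) ▸ h14]
  obtain ⟨e0, elen, etree⟩ := ext_tree v v3
  have hext : ∀ i < 126, InS B y (tbl extT v i) := by
    intro i
    induction i using Nat.strong_induction_on with
    | _ i ih =>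
      intro hi
      by_cases h0 : i = 0
      · subst h0; rw [e0]; exact h5S
      obtain ⟨h1, h2, e⟩ := etree i hi (by omega)
      rw [← e]
      exact (hgen _ h1).act (ih _ h2 (by omega))
  have hidx : ∀ c, c ∈ extL v ↔ ∃ i < 126, c = tbl extT v i := fun c => by
    constructor
    · intro h
      obtain ⟨i, hi, e⟩ := List.getElem_of_mem h
      exact ⟨i, elen ▸ hi, by rw [← e]; exact (List.getD_eq_getElem _ _ _).symm⟩
    · rintro ⟨i, hi, rfl⟩
      rw [show tbl extT v i = (extL v).getD i 0 from rfl,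
        List.getD_eq_getElem _ _ (show i < (extL v).length by omega)]
      exact List.getElem_mem _
  have hclosed : ∀ a < 8, ∀ c ∈ extL v, nrm (tnN (tbl genT v a) c) ∈ extL v := fun a ha c hc => by
    obtain ⟨i, hi, rfl⟩ := (hidx c).1 hc
    obtain ⟨hlt, e⟩ := ext_act v v3 a ha i hi
    exact (hidx _).2 ⟨_, hlt, e⟩
  have hR : ∀ i < 126, ∀ z, InS B y z → hn z (tbl extT v i) = 0 → z ∈ extL v := by
    intro i
    induction i using Nat.strong_induction_on with
    | _ i ih =>
      intro hi z hz h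
      by_cases h0 : i = 0
      · subst h0
        rw [e0] at h
        rcases hexact z hz h with rfl | ⟨j, hj, rfl⟩
        · exact (hidx _).2 ⟨0, by norm_num, e0.symm⟩
        · exact List.contains_iff_mem.1 (sig_in_ext v v3 j hj)
      obtain ⟨h1, h2, e⟩ := etree i hi (by omega)
      have hg := hgen _ h1
      have hgz : InS B y (nrm (tnN (tbl genT v (tbl extG v i)) z)) := hg.act hz
      have h' := hn_tnN hg.1.iso h
      conv at h' => arg 1; arg 2; rw [← e]
      rw [nrm_tnN_twice hg.1.iso (ext_ok v v3 _ (show tbl extP v i < 126 by omega))] at h'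
      have := hclosed _ h1 _ (ih _ h2 (by omega) _ hgz h')
      rwa [nrm_tnN_twice hg.1.iso hz.1] at this
  intro c
  refine ⟨fun hc => ?_, fun hc => ?_⟩
  · rcases ext_diam v v3 c hc.1.1 hc.1.2.2.1 with h | h | ⟨s, hs, h⟩
    · exact absurd h hc.1.2.1
    · exact hc.1.2.2.2 ▸ List.contains_iff_mem.1 h
    · obtain ⟨i, hi, rfl⟩ := (hidx s).1 hs
      exact hR i hi c hc h
  · obtain ⟨i, hi, rfl⟩ := (hidx c).1 hc
    exact hext i hi

/-- The set of two members at distance two. -/
theorem exists_shape {b y a : G} (hb : b ∈ conjugatesOf d) (hy : y ∈ conjugatesOf d)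
    (ha : a ∈ conjugatesOf d) (cab : Commute a b) (cya : Commute y a) (hyb : ¬ Commute y b) :
    ∃ v < 3, ∃ k ∈ Cent b, ∀ c, InS (L.at' hb) (k * y * k⁻¹) c ↔ c ∈ extL v := by
  set B := L.at' hb with hB
  obtain ⟨c, hc, h0, rfl⟩ := L.exists_mem' hb ha cab (fun h => hyb (h ▸ cya))
  obtain ⟨k, hk, ek⟩ := B.exists_conj_five hc h0
  have hkb : k⁻¹ * b * k = b := by rw [mul_assoc, ← (mem_cent.1 hk).eq, inv_mul_cancel_left]
  have h1 : Commute (k⁻¹ * y * k) (B.mem 5) := by
    have := conj_commute cya k⁻¹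
    rw [← ek] at this
    simpa [mul_assoc] using this
  have h2 : ¬ Commute (k⁻¹ * y * k) b := fun h => hyb (by
    have := conj_commute h k
    rw [(mem_cent.1 hk).eq, mul_inv_cancel_right] at this
    simpa [mul_assoc] using this)
  have hy' : k⁻¹ * y * k ∈ conjugatesOf d := by simpa using conj_mem hy k⁻¹
  obtain ⟨g, hg, hg5, hgt⟩ := L.exists_normalized hb hy' h1 h2 4 le_rfl
  have hgb : g * b * g⁻¹ = b := by rw [(mem_cent.1 hg).eq, mul_inv_cancel_right]
  obtain ⟨v, hv, h⟩ := L.trace_eq hb (conj_mem hy' g)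
    (hg5 ▸ conj_commute h1 g) (fun h => h2 (by
      have := conj_commute (hgb.symm ▸ h : Commute (g * (k⁻¹ * y * k) * g⁻¹) (g * b * g⁻¹)) g⁻¹
      simpa [mul_assoc] using this)) hgt
  refine ⟨v, hv, g * k⁻¹, mul_mem hg (inv_mem hk), ?_⟩
  rw [show g * k⁻¹ * y * (g * k⁻¹)⁻¹ = g * (k⁻¹ * y * k) * g⁻¹ by group]
  exact h

end Loc

end Cfsg.Agent.Transpos.Recog22
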